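import Cfsg.Agent.Lib.SpinorMatrix
import Cfsg.Agent.Lib.OmegaSum
import Cfsg.Agent.Lib.PSLnGraph.Forms
import Cfsg.Agent.Lib.FiniteForms.Quad

/-!
The spinor character of an isometry of a quadratic space in odd characteristic through the determinant of the
Wall form.
-/

set_option autoImplicit false
set_option linter.unusedSectionVars false
set_option maxHeartbeats 1000000

namespace CfsgLib.SpecO9

open QuadraticMap Module CfsgLib.WittExtension CfsgLib.SpinorNorm CfsgLib.SpinorMatrix CfsgLib.FiniteForms

variable {F : Type*} [Field F] [Fintype F]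

open Classical in
/-- The class of a scalar modulo squares. -/
noncomputable def sg (x : F) : ℤˣ := if IsSquare x then 1 else -1

theorem sg_sq (x : F) : sg (x * x) = 1 := if_pos ⟨x, rfl⟩

theorem sg_one : sg (1 : F) = 1 := if_pos ⟨1, (one_mul 1).symm⟩

theorem sg_mul (h2 : (2 : F) ≠ 0) {a b : F} (ha : a ≠ 0) (hb : b ≠ 0) : sg (a * b) = sg a * sg b := by
  classical
  simp only [sg, CfsgLib.OmegaMem.isSquare_mul_iff h2 ha hb]
  by_cases h1 : IsSquare a <;> by_cases h3 : IsSquare b <;> simp [h1, h3]

theorem sg_sq_mul (h2 : (2 : F) ≠ 0) {a b : F} (ha : a ≠ 0) (hb : b ≠ 0) : sg (a * a * b) = sg b := by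
  rw [sg_mul h2 (mul_ne_zero ha ha) hb, sg_sq, one_mul]

theorem sg_eq_one_iff {x : F} : sg x = 1 ↔ IsSquare x := by
  unfold sg
  split_ifs with h <;> simp [h]

section Alt

theorem det_J (m : ℕ) : (Matrix.J (Fin m) F).det = 1 := by
  have h : Matrix.J (Fin m) F = Matrix.fromBlocks 1 (-1) 0 1 * Matrix.fromBlocks 1 0 1 1 *
      Matrix.fromBlocks 1 (-1) 0 1 := by
    simp [Matrix.J, Matrix.fromBlocks_multiply]
  rw [h, Matrix.det_mul, Matrix.det_mul, Matrix.det_fromBlocks_zero₂₁, Matrix.det_fromBlocks_zero₁₂]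
  simp

/-- An invertible alternating matrix has even size and square determinant. -/
theorem alt_det {r : ℕ} {G : Matrix (Fin r) (Fin r) F} (hskew : G.transpose = -G) (hdiag : ∀ i, G i i = 0)
    (hdet : G.det ≠ 0) : Even r ∧ IsSquare G.det := by
  obtain ⟨m, hm, P, P', s, h1, h1', h⟩ := CfsgLib.PSLnGraph.exists_symp hskew hdiag hdet
  rw [Fintype.card_fin] at hm
  refine ⟨⟨m, hm⟩, ?_⟩
  let e : Fin m ⊕ Fin m ≃ Fin r := finSumFinEquiv.trans (finCongr hm.symm)
  have h' := congrArg Matrix.det h
  rw [Matrix.det_smul, det_J, Fintype.card_sum, Fintype.card_fin] at h'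
  have he : (P.transpose * G * P).det = (P.submatrix id e.symm).det * (P.submatrix id e.symm).det * G.det := by
    rw [← Matrix.det_submatrix_equiv_self e.symm]
    have : (P.transpose * G * P).submatrix e.symm e.symm =
        (P.submatrix id e.symm).transpose * G * P.submatrix id e.symm := by
      ext i j
      simp [Matrix.mul_apply, Matrix.submatrix_apply]
    rw [this, Matrix.det_mul, Matrix.det_mul, Matrix.det_transpose]
    ring
  rw [he] at h'
  set x := (s : F) ^ m * (P.submatrix id e.symm).det
  have hx : x * x * G.det = 1 := by rw [← h']; simp only [x]; ring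
  have hx0 : x ≠ 0 := fun h0 => by rw [h0] at hx; simp at hx
  exact ⟨x⁻¹, by field_simp; linear_combination hx⟩

end Alt

section Wall

variable {V : Type*} [AddCommGroup V] [Module F V] [Fintype V] [DecidableEq V] [DecidableEq F]
  (Q : QuadraticForm F V)

/-- The displacement of an isometry. -/
def disp (g : quadIso Q) : V →ₗ[F] V := (g.1 : V →ₗ[F] V) - LinearMap.id

theorem disp_apply (g : quadIso Q) (x : V) : disp Q g x = g.1 x - x := rfl

/-- The Gram matrix of the Wall form. -/
def wallMat (g : quadIso Q) {r : ℕ} (x : Fin r → V) : Matrix (Fin r) (Fin r) F :=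
  Matrix.of fun i j => -polar Q (x i) (disp Q g (x j))

theorem polar_iso (g : quadIso Q) (u v : V) : polar Q (g.1 u) (g.1 v) = polar Q u v :=
  OrthOrder.polar_map g.2 u v

theorem polar_disp_self (g : quadIso Q) (x : V) : -polar Q x (disp Q g x) = Q (disp Q g x) := by
  have h1 : Q (disp Q g x) = Q (g.1 x) + Q x - polar Q (g.1 x) x := by
    rw [disp_apply, sub_eq_add_neg, QuadraticMap.map_add Q, QuadraticMap.map_neg, polar_neg_right]
    ring
  rw [h1, g.2, disp_apply, polar_sub_right, ReflectionGen.pol_self, polar_comm Q (g.1 x) x]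
  ring

variable [FiniteDimensional F V]

theorem wall_det_ne_zero (hQ : (polarBilin Q).Nondegenerate) (g : quadIso Q) {r : ℕ} (x : Fin r → V)
    (hli : LinearIndependent F fun i => disp Q g (x i))
    (hsp : Submodule.span F (Set.range fun i => disp Q g (x i)) = LinearMap.range (disp Q g)) :
    (wallMat Q g x).det ≠ 0 := by
  intro h0
  obtain ⟨c, hc0, hc⟩ := Matrix.exists_vecMul_eq_zero_iff.mpr h0
  set z := ∑ i, c i • x i with hz
  have hrow : ∀ j, polar Q z (disp Q g (x j)) = 0 := fun j => by
    have h1 := congrFun hc j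
    simp only [Matrix.vecMul, dotProduct, wallMat, Matrix.of_apply, mul_neg, Finset.sum_neg_distrib,
      Pi.zero_apply, neg_eq_zero] at h1
    rw [hz, ← polarBilin_apply_apply, map_sum, LinearMap.sum_apply, ← h1]
    exact Finset.sum_congr rfl fun i _ => by
      rw [map_smul, LinearMap.smul_apply, smul_eq_mul, polarBilin_apply_apply]
  have hall : ∀ y, polar Q z (disp Q g y) = 0 := fun y => by
    have hy : disp Q g y ∈ Submodule.span F (Set.range fun i => disp Q g (x i)) := hsp ▸ ⟨y, rfl⟩
    obtain ⟨a, ha⟩ := (Submodule.mem_span_range_iff_exists_fun F).mp hy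
    rw [← ha, ← polarBilin_apply_apply, map_sum]
    exact Finset.sum_eq_zero fun i _ => by rw [map_smul, polarBilin_apply_apply, hrow, smul_zero]
  have hgz : disp Q g z = 0 := hQ.1 _ fun w => by
    obtain ⟨y, rfl⟩ := g.1.surjective w
    rw [polarBilin_apply_apply]
    have h1 := hall y
    rw [disp_apply, polar_sub_right] at h1
    rw [disp_apply, sub_eq_add_neg, polar_add_left, polar_neg_left, polar_iso]
    linear_combination -h1
  refine hc0 (funext fun i => ?_)
  rw [hz, map_sum] at hgz
  simp only [map_smul] at hgz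
  exact Fintype.linearIndependent_iff.mp hli c hgz i

/-- The spinor character through the determinant of the Wall form. -/
theorem wall (h2 : (2 : F) ≠ 0) (hQ : (polarBilin Q).Nondegenerate) (p : ℕ) [Fact p.Prime] [CharP F p] :
    ∀ g : quadIso Q, ∃ (r : ℕ) (x : Fin r → V), LinearIndependent F (fun i => disp Q g (x i)) ∧
      Submodule.span F (Set.range fun i => disp Q g (x i)) = LinearMap.range (disp Q g) ∧
      levelSign Q 1 g = (-1) ^ r * sg (wallMat Q g x).det := by
  suffices key : ∀ (n : ℕ) (g : quadIso Q), finrank F (LinearMap.range (disp Q g)) = n →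
      ∃ (r : ℕ) (x : Fin r → V), LinearIndependent F (fun i => disp Q g (x i)) ∧
        Submodule.span F (Set.range fun i => disp Q g (x i)) = LinearMap.range (disp Q g) ∧
        levelSign Q 1 g = (-1) ^ r * sg (wallMat Q g x).det from fun g => key _ g rfl
  intro n
  induction n using Nat.strong_induction_on with
  | _ n ih =>
  intro g hn
  set U := LinearMap.range (disp Q g) with hU
  by_cases hex : ∃ x, Q (disp Q g x) ≠ 0
  · obtain ⟨x, hv⟩ := hex
    set v := disp Q g x with hvd
    have hv0 : v ≠ 0 := fun e => hv (by rw [e, QuadraticMap.map_zero])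
    set g' := refl Q hv * g with hg'
    have hwv : -polar Q x v = Q v := polar_disp_self Q g x
    have hform : ∀ y, disp Q g' y = disp Q g y + ((Q v)⁻¹ * polar Q x (disp Q g y)) • v := fun y => by
      have hg1 : g.1 x = v + x := by rw [hvd, disp_apply, sub_add_cancel]
      have hp : polar Q v (g.1 y) = -polar Q x (disp Q g y) := by
        have h1 := polar_iso Q g x y
        rw [hg1, polar_add_left] at h1
        rw [disp_apply, polar_sub_right]
        linear_combination h1
      rw [disp_apply, disp_apply, hg']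
      show (refl Q hv).1 (g.1 y) - y = _
      rw [refl_apply, hp, disp_apply]
      module
    have hperp : ∀ y, polar Q x (disp Q g' y) = 0 := fun y => by
      rw [hform, polar_add_right, polar_smul_right, smul_eq_mul]
      have : polar Q x v = -Q v := by rw [← hwv, neg_neg]
      rw [this]
      field_simp
      ring
    have hvU : v ∈ U := ⟨x, rfl⟩
    have hnotin : v ∉ LinearMap.range (disp Q g') := fun ⟨y, hy⟩ => by
      have := hperp y
      rw [hy] at this
      rw [this, neg_zero] at hwv
      exact hv hwv.symm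
    have hle : LinearMap.range (disp Q g') ≤ U := by
      rintro _ ⟨y, rfl⟩
      rw [hform]
      exact U.add_mem ⟨y, rfl⟩ (U.smul_mem _ hvU)
    have hlt : finrank F (LinearMap.range (disp Q g')) < n := by
      rw [← hn]
      exact Submodule.finrank_lt_finrank_of_lt (lt_of_le_of_ne hle fun e => hnotin (e.symm ▸ hvU))
    obtain ⟨r, y, hli, hsp, hsign⟩ := ih _ hlt g' rfl
    set lam : Fin r → F := fun j => (Q v)⁻¹ * polar Q x (disp Q g (y j)) with hlam
    let z : Fin r → V := fun j => y j + lam j • x
    have hz : ∀ j, disp Q g (z j) = disp Q g' (y j) := fun j => by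
      rw [map_add, map_smul, hform]
    have hb : (fun i => disp Q g ((Fin.cons x z : Fin (r + 1) → V) i)) =
        Fin.cons v (fun j => disp Q g' (y j)) := by
      funext i
      refine Fin.cases ?_ (fun j => ?_) i
      · simp [hvd]
      · simp [hz]
    refine ⟨r + 1, Fin.cons x z, ?_, ?_, ?_⟩
    · rw [hb]
      exact linearIndependent_finCons.mpr ⟨hli, hsp.symm ▸ hnotin⟩
    · rw [hb, Fin.range_cons, Submodule.span_insert, hsp]
      refine le_antisymm (sup_le ((Submodule.span_singleton_le_iff_mem _ _).mpr hvU) hle) ?_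
      rintro _ ⟨w, rfl⟩
      rw [show disp Q g w = (-((Q v)⁻¹ * polar Q x (disp Q g w))) • v + disp Q g' w by rw [hform]; module]
      exact Submodule.add_mem_sup (Submodule.smul_mem _ _ (Submodule.mem_span_singleton_self v)) ⟨w, rfl⟩
    · have hg : g = refl Q hv * g' := by rw [hg', ← mul_assoc, refl_mul_self, one_mul]
      have hdet : (wallMat Q g (Fin.cons x z : Fin (r + 1) → V)).det = Q v * (wallMat Q g' y).det := by
        rw [Matrix.det_succ_row_zero, Fin.sum_univ_succ]
        have hrow : ∀ j : Fin r, wallMat Q g (Fin.cons x z : Fin (r + 1) → V) 0 j.succ = 0 := fun j => by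
          simp only [wallMat, Matrix.of_apply, Fin.cons_zero, Fin.cons_succ, hz, hperp, neg_zero]
        rw [Finset.sum_eq_zero (fun j _ => by rw [hrow]; simp), add_zero]
        have h00 : wallMat Q g (Fin.cons x z : Fin (r + 1) → V) 0 0 = Q v := by
          simp only [wallMat, Matrix.of_apply, Fin.cons_zero]
          exact hwv
        have hsub : (wallMat Q g (Fin.cons x z : Fin (r + 1) → V)).submatrix Fin.succ (Fin.succAbove 0) =
            wallMat Q g' y := by
          ext i j
          simp only [wallMat, Matrix.submatrix_apply, Matrix.of_apply, Fin.succAbove_zero, Fin.cons_succ, hz]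
          show -polar Q (y i + lam i • x) _ = _
          rw [polar_add_left, polar_smul_left, hperp, smul_zero, add_zero]
        rw [h00, hsub]
        simp
      have hne : (wallMat Q g' y).det ≠ 0 := wall_det_ne_zero Q hQ g' y hli hsp
      conv_lhs => rw [hg, map_mul, levelSign_refl Q h2 hv one_ne_zero, one_mul, hsign]
      rw [hdet, sg_mul h2 hv hne, pow_succ]
      unfold sg
      by_cases h1 : IsSquare (Q v) <;> simp [h1]
  · push Not at hex
    -- the displacement space is totally singular
    have hB : ∀ a b, polar Q (disp Q g a) (disp Q g b) = 0 := fun a b => by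
      rw [polar, ← map_add, hex, hex, hex]
      simp
    have hfix : ∀ a, disp Q g (disp Q g a) = 0 := fun a => hQ.1 _ fun w => by
      obtain ⟨b, rfl⟩ := g.1.surjective w
      rw [polarBilin_apply_apply]
      have h1 := hB a b
      rw [disp_apply Q g b, polar_sub_right] at h1
      rw [disp_apply Q g (disp Q g a), sub_eq_add_neg, polar_add_left, polar_neg_left, polar_iso]
      linear_combination -h1
    have hiter : ∀ (k : ℕ) (a : V), (g ^ k).1 a = a + (k : F) • disp Q g a := by
      intro k
      induction k with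
      | zero => intro a; simp
      | succ k ihk =>
        intro a
        rw [pow_succ']
        show g.1 ((g ^ k).1 a) = _
        rw [ihk, map_add, map_smul, Nat.cast_succ, add_smul, one_smul]
        have h1 : g.1 a = a + disp Q g a := by rw [disp_apply]; abel
        have h3 : g.1 (disp Q g a) = disp Q g a := by
          have := hfix a
          rw [disp_apply Q g (disp Q g a), sub_eq_zero] at this
          exact this
        rw [h1, h3]
        abel
    have hgp : g ^ p = 1 := Subtype.ext (LinearEquiv.ext fun a => by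
      rw [hiter, CharP.cast_eq_zero, zero_smul, add_zero]; rfl)
    have hp2 : p ≠ 2 := fun h => h2 (by subst h; exact CharTwo.two_eq_zero)
    have hsign : levelSign Q 1 g = 1 := by
      have h1 : (levelSign Q 1 g) ^ p = 1 := by rw [← map_pow, hgp, map_one]
      obtain ⟨k, hk⟩ := (Fact.out : p.Prime).odd_of_ne_two hp2
      rwa [hk, pow_succ, pow_mul, Int.units_sq, one_pow, one_mul] at h1
    obtain ⟨b⟩ : Nonempty (Basis (Fin (finrank F U)) F U) := ⟨Module.finBasis F U⟩
    choose x hx using fun i => LinearMap.mem_range.mp (b i).2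
    have hbx : (fun i => disp Q g (x i)) = fun i => (b i : V) := funext hx
    have hli : LinearIndependent F fun i => disp Q g (x i) := by
      rw [hbx]
      exact b.linearIndependent.map' U.subtype U.ker_subtype
    have hsp : Submodule.span F (Set.range fun i => disp Q g (x i)) = U := by
      rw [hbx, show (fun i => (b i : V)) = U.subtype ∘ b from rfl, Set.range_comp, Submodule.span_image,
        b.span_eq, Submodule.map_top, Submodule.range_subtype]
    refine ⟨_, x, hli, hsp, ?_⟩
    have hdiag : ∀ i, wallMat Q g x i i = 0 := fun i => by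
      simp only [wallMat, Matrix.of_apply]
      rw [polar_disp_self, hex]
    have hskew : (wallMat Q g x).transpose = -wallMat Q g x := by
      ext i j
      simp only [wallMat, Matrix.transpose_apply, Matrix.neg_apply, Matrix.of_apply, neg_neg]
      have h1 := polar_iso Q g (x i) (x j)
      rw [show g.1 (x i) = x i + disp Q g (x i) by rw [disp_apply]; abel,
        show g.1 (x j) = x j + disp Q g (x j) by rw [disp_apply]; abel, polar_add_left, polar_add_right,
        polar_add_right, hB, add_zero, polar_comm Q (disp Q g (x i)) (x j)] at h1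
      linear_combination -h1
    obtain ⟨hev, hsq⟩ := alt_det hskew hdiag (wall_det_ne_zero Q hQ g x hli hsp)
    rw [hsign, hev.neg_one_pow, one_mul, sg_eq_one_iff.mpr hsq]

end Wall

section Coord

variable {ι : Type} [Fintype ι] [DecidableEq ι] (Q : QuadraticForm F (ι → F))

open Classical in
/-- The spinor character on matrices. -/
noncomputable def sgn : Cfsg.isometryGroup F ⇑Q →* ℤˣ :=
  (levelSign Q 1).comp (isoEquiv Q).toMonoidHom

theorem mem_omega (h2 : (2 : F) ≠ 0) (hn : 2 ≤ Fintype.card ι) (hQ : (polarBilin Q).Nondegenerate)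
    (g : Cfsg.isometryGroup F ⇑Q) : g ∈ Cfsg.Omega F ⇑Q ↔ g.1.1.det = 1 ∧ sgn Q g = 1 := by
  classical
  rw [CfsgLib.OmegaMem.omega_iff Q h2 hn hQ, Prod.ext_iff]
  refine and_congr ⟨fun h => ?_, fun h => ?_⟩ Iff.rfl
  · rw [det_eq_dickson Q hQ (hc_odd Q h2 hQ) g, show dicksonHom Q hQ (hc_odd Q h2 hQ) (isoEquiv Q g) = 1 from h]
    simp
  · show dicksonHom Q hQ (hc_odd Q h2 hQ) (isoEquiv Q g) = 1
    rw [det_eq_dickson Q hQ (hc_odd Q h2 hQ) g] at h
    rcases Int.units_eq_one_or (dicksonHom Q hQ (hc_odd Q h2 hQ) (isoEquiv Q g)) with e | e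
    · exact e
    · rw [e] at h
      push_cast at h
      exact absurd (by linear_combination -h) h2

theorem mem_omega_of_odd (h2 : (2 : F) ≠ 0) (hQ : (polarBilin Q).Nondegenerate)
    (g : Cfsg.isometryGroup F ⇑Q) {k : ℕ} (hk : Odd k) (hg : g ^ k = 1) : g ∈ Cfsg.Omega F ⇑Q := by
  obtain ⟨j, rfl⟩ := hk
  have : g = g ^ (j + 1) * g ^ (j + 1) := by
    rw [← pow_add, show j + 1 + (j + 1) = 2 * j + 1 + 1 by ring, pow_succ, hg, one_mul]
  rw [this]
  exact CfsgLib.OmegaList.sq_mem_commutator Q (hc_odd Q h2 hQ) _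

theorem sgn_of_det_sub (h2 : (2 : F) ≠ 0) (hQ : (polarBilin Q).Nondegenerate) (g : Cfsg.isometryGroup F ⇑Q)
    (hg : (g.1.1 - 1).det ≠ 0) :
    sgn Q g = (-1) ^ Fintype.card ι *
      sg ((-1) ^ Fintype.card ι * (polarMat ⇑Q).det * (g.1.1 - 1).det) := by
  classical
  obtain ⟨p, hp⟩ := CharP.exists F
  haveI : Fact p.Prime := ⟨CharP.char_is_prime F p⟩
  obtain ⟨r, x, hli, hsp, hs⟩ := wall Q h2 hQ p (isoEquiv Q g)
  have hd : ∀ y, disp Q (isoEquiv Q g) y = (g.1.1 - 1).mulVec y := fun y => by
    rw [disp_apply, isoEquiv_apply, Matrix.sub_mulVec, Matrix.one_mulVec]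
  have hinj : Function.Injective (disp Q (isoEquiv Q g)) := fun a b hab => by
    rw [hd, hd] at hab
    exact Matrix.mulVec_injective_of_isUnit ((Matrix.isUnit_iff_isUnit_det _).mpr (isUnit_iff_ne_zero.mpr hg)) hab
  have htop : LinearMap.range (disp Q (isoEquiv Q g)) = ⊤ :=
    LinearMap.range_eq_top.mpr (LinearMap.injective_iff_surjective.mp hinj)
  have hr : r = Fintype.card ι := by
    have h1 := finrank_span_eq_card hli
    rw [hsp, htop, finrank_top, Module.finrank_pi, Fintype.card_fin] at h1
    exact h1.symm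
  let e : ι ≃ Fin r := (Fintype.equivFin ι).trans (finCongr hr.symm)
  let X : Matrix ι ι F := Matrix.of fun i j => x (e j) i
  have hX : (wallMat Q (isoEquiv Q g) x).submatrix e e =
      -(X.transpose * polarMat ⇑Q * ((g.1.1 - 1) * X)) := by
    ext i j
    rw [Matrix.mul_assoc, Matrix.neg_apply]
    simp only [wallMat, Matrix.submatrix_apply, Matrix.of_apply, polar_eq, hd]
    simp only [Matrix.mulVec, dotProduct, Matrix.mul_apply, Matrix.transpose_apply, X, Matrix.of_apply]
  have hdet := congrArg Matrix.det hX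
  rw [Matrix.det_submatrix_equiv_self, Matrix.det_neg, Matrix.det_mul, Matrix.det_mul, Matrix.det_mul,
    Matrix.det_transpose] at hdet
  have hne := wall_det_ne_zero Q hQ (isoEquiv Q g) x hli hsp
  have hX0 : X.det ≠ 0 := fun h0 => hne (by rw [hdet, h0]; ring)
  show levelSign Q 1 (isoEquiv Q g) = _
  rw [hs, hdet, ← hr, show (-1 : F) ^ r * (X.det * (polarMat ⇑Q).det * ((g.1.1 - 1).det * X.det)) =
    X.det * X.det * ((-1) ^ r * (polarMat ⇑Q).det * (g.1.1 - 1).det) by ring,
    sg_sq_mul h2 hX0 (mul_ne_zero (mul_ne_zero (pow_ne_zero _ (neg_ne_zero.mpr one_ne_zero))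
      (polarMat_det_ne_zero hQ)) hg)]

theorem sgn_of_det_add (h2 : (2 : F) ≠ 0) (hQ : (polarBilin Q).Nondegenerate) (g : Cfsg.isometryGroup F ⇑Q)
    (hg : (g.1.1 + 1).det ≠ 0) : sgn Q g = sg ((g.1.1 + 1).det * 2 ^ Fintype.card ι) := by
  classical
  let ng : Cfsg.isometryGroup F ⇑Q := ⟨-1, fun v _ => by
    show Q ((-1 : Matrix ι ι F).mulVec v) = Q v
    rw [Matrix.neg_mulVec, Matrix.one_mulVec, QuadraticMap.map_neg]⟩
  have hng : ng.1.1 = -1 := rfl
  have hmul : g = ng * (ng * g) := by
    rw [← mul_assoc, show ng * ng = 1 from Subtype.ext (by simp [ng]), one_mul]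
  have h1 : ((ng * g).1.1 - 1).det = (-1) ^ Fintype.card ι * (g.1.1 + 1).det := by
    rw [← Matrix.det_neg]
    congr 1
    show ng.1.1 * g.1.1 - 1 = _
    rw [hng, neg_one_mul, neg_add']
  have h3 : (ng.1.1 - 1).det = (-1) ^ Fintype.card ι * 2 ^ Fintype.card ι := by
    rw [hng, ← neg_add', one_add_one_eq_two, Matrix.det_neg]
    congr 1
    rw [show (2 : Matrix ι ι F) = (2 : F) • 1 by rw [two_smul, one_add_one_eq_two], Matrix.det_smul, Matrix.det_one,
      mul_one]
  have hm : (-1 : F) ^ Fintype.card ι ≠ 0 := pow_ne_zero _ (neg_ne_zero.mpr one_ne_zero)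
  have h20 : (2 : F) ^ Fintype.card ι ≠ 0 := pow_ne_zero _ h2
  have hG := polarMat_det_ne_zero hQ
  conv_lhs => rw [hmul, map_mul, sgn_of_det_sub Q h2 hQ ng (by rw [h3]; exact mul_ne_zero hm h20),
    sgn_of_det_sub Q h2 hQ (ng * g) (by rw [h1]; exact mul_ne_zero hm hg)]
  rw [h1, h3, mul_mul_mul_comm, ← mul_pow, neg_one_mul, neg_neg, one_pow, one_mul,
    ← sg_mul h2 (mul_ne_zero (mul_ne_zero hm hG) (mul_ne_zero hm h20)) (mul_ne_zero (mul_ne_zero hm hG)
      (mul_ne_zero hm hg)),
    show (-1 : F) ^ Fintype.card ι * (polarMat ⇑Q).det * ((-1) ^ Fintype.card ι * 2 ^ Fintype.card ι) *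
      ((-1) ^ Fintype.card ι * (polarMat ⇑Q).det * ((-1) ^ Fintype.card ι * (g.1.1 + 1).det)) =
      ((-1 : F) ^ Fintype.card ι * (-1) ^ Fintype.card ι * (polarMat ⇑Q).det) *
      ((-1 : F) ^ Fintype.card ι * (-1) ^ Fintype.card ι * (polarMat ⇑Q).det) *
      ((g.1.1 + 1).det * 2 ^ Fintype.card ι) by ring,
    sg_sq_mul h2 (mul_ne_zero (mul_ne_zero hm hm) hG) (mul_ne_zero hg h20)]

end Coord

end CfsgLib.SpecO9
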