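import Cfsg.Agent.Lib.SpecO9.Roots
import Cfsg.Agent.Lib.SpecO9.Spinor
import Cfsg.Agent.Lib.SpecSp8.Annih
import Cfsg.Agent.Lib.SpectrumPowers.SympBound

/-!
Element orders in `Ω₉(q)`, `q` odd: the characteristic polynomial divides `(X ^ N - 1) * (X + 1)` for a target `N`,
and the eigenvalue `-1` costs one block less than its multiplicity.
-/

set_option autoImplicit false
set_option linter.unusedSectionVars false
set_option linter.style.haveILetI false
set_option maxHeartbeats 1000000

namespace CfsgLib.SpecO9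

open Polynomial QuadraticMap Module CfsgLib.FiniteForms
open scoped Matrix

variable {F : Type*} [Field F] [Fintype F] {ι : Type} [Fintype ι] [DecidableEq ι] (Q : QuadraticForm F (ι → F))

theorem polar_mulVec (g : Cfsg.isometryGroup F ⇑Q) (u v : ι → F) :
    polar Q (g.1.1 *ᵥ u) (g.1.1 *ᵥ v) = polar Q u v := by
  simp only [polar, ← Matrix.mulVec_add]
  rw [show Q (g.1.1 *ᵥ (u + v)) = Q (u + v) from g.2 _ (u + v), show Q (g.1.1 *ᵥ u) = Q u from g.2 u u,
    show Q (g.1.1 *ᵥ v) = Q v from g.2 v v]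

theorem gram_iso (g : Cfsg.isometryGroup F ⇑Q) : g.1.1ᵀ * polarMat ⇑Q * g.1.1 = polarMat ⇑Q := by
  ext i j
  have h := polar_mulVec Q g (Pi.single i 1) (Pi.single j 1)
  rw [polar_eq, Matrix.mulVec_mulVec, Matrix.mulVec_single_one, Matrix.mulVec_single_one] at h
  rw [Matrix.mul_assoc, Matrix.mul_apply]
  exact h

/-- Roots of a matrix preserving a nonsingular bilinear form are closed under inversion. -/
theorem roots_inv_of_form {K : Type*} [Field K] [IsAlgClosed K] (A G : Matrix ι ι K) (hG : G.det ≠ 0)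
    (h : Aᵀ * G * A = G) : A.charpoly.roots.map (·⁻¹) = A.charpoly.roots ∧ (0 : K) ∉ A.charpoly.roots := by
  have hGu : IsUnit G.det := isUnit_iff_ne_zero.mpr hG
  have hleft : (G⁻¹ * (Aᵀ * G)) * A = 1 := by
    rw [Matrix.mul_assoc, h, Matrix.nonsing_inv_mul _ hGu]
  have hA : IsUnit A := IsUnit.of_mul_eq_one_right _ hleft
  have hinv : A⁻¹ = G⁻¹ * (Aᵀ * G) := Matrix.inv_eq_left_inv hleft
  have hch : A⁻¹.charpoly = A.charpoly := by
    rw [hinv, Matrix.charpoly_mul_comm, Matrix.mul_assoc, Matrix.mul_nonsing_inv _ hGu, Matrix.mul_one,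
      Matrix.charpoly_transpose]
  have hdet : A.det ≠ 0 := ((Matrix.isUnit_iff_isUnit_det A).mp hA).ne_zero
  have h0 : (0 : K) ∉ A.charpoly.roots := fun h0 => hdet (by
    rw [Matrix.det_eq_prod_roots_charpoly]
    exact Multiset.prod_eq_zero h0)
  refine ⟨?_, h0⟩
  have hrev := CfsgLib.SpectrumPowers.roots_reverse_prod A.charpoly.roots h0
  rw [← (IsAlgClosed.splits A.charpoly).eq_prod_roots_of_monic (Matrix.charpoly_monic _)] at hrev
  rw [← hrev, Matrix.reverse_charpoly]
  conv_rhs => rw [← hch, Matrix.charpoly_inv A hA, Ring.inverse_eq_inv',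
    show ((-1 : K[X]) ^ Fintype.card ι) = C ((-1 : K) ^ Fintype.card ι) by simp, ← map_mul]
  rw [Polynomial.roots_C_mul _ (mul_ne_zero (pow_ne_zero _ (neg_ne_zero.mpr one_ne_zero)) (inv_ne_zero hdet))]

/-- In a multiset closed under inversion with product one, `-1` occurs an even number of times. -/
theorem even_count_neg_one {K : Type*} [Field K] [DecidableEq K] (h2 : (2 : K) ≠ 0) (R : Multiset K)
    (h0 : (0 : K) ∉ R) (hinv : ∀ t : K, R.count t⁻¹ = R.count t) (hprod : R.prod = 1) :
    Even (R.count (-1)) := by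
  classical
  have hne : (1 : K) ≠ -1 := fun h => h2 (by linear_combination h)
  have h1 : ∏ t ∈ R.toFinset.erase (-1), t ^ R.count t = 1 := by
    refine Finset.prod_involution (fun t _ => t⁻¹) (fun t ht => ?_) (fun t ht hne' => ?_) (fun t ht => ?_)
      (fun t _ => inv_inv t)
    · rw [hinv, ← mul_pow, mul_inv_cancel₀ (fun e => h0 (e ▸ Multiset.mem_toFinset.mp (Finset.mem_of_mem_erase ht))),
        one_pow]
    · intro h
      rcases (inv_eq_self_iff (fun e => h0 (e ▸ Multiset.mem_toFinset.mp (Finset.mem_of_mem_erase ht)))).mp h with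
        e | e
      · exact hne' (by rw [e, one_pow])
      · exact Finset.ne_of_mem_erase ht e
    · simp only [Finset.mem_erase, Multiset.mem_toFinset] at ht ⊢
      refine ⟨fun h => ht.1 (by rw [← inv_inv t, h, inv_neg, inv_one]), ?_⟩
      exact Multiset.one_le_count_iff_mem.mp (by rw [hinv]; exact Multiset.one_le_count_iff_mem.mpr ht.2)
  by_cases hm : (-1 : K) ∈ R
  · have h3 := hprod
    rw [Finset.prod_multiset_count, ← Finset.prod_erase_mul _ _ (Multiset.mem_toFinset.mpr hm), h1, one_mul] at h3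
    rcases Nat.even_or_odd (R.count (-1)) with h | h
    · exact h
    · rw [h.neg_one_pow] at h3
      exact absurd h3.symm hne
  · rw [Multiset.count_eq_zero.mpr hm]; exact ⟨0, rfl⟩

/-- A polynomial killing an isometry up to one factor `X + 1`. -/
theorem kill_cap (hQ : (polarBilin Q).Nondegenerate) (h2 : (2 : F) ≠ 0) (g : Cfsg.isometryGroup F ⇑Q)
    (hev : Even (g.1.1.charpoly.rootMultiplicity (-1))) {S : F[X]}
    (hS : g.1.1.charpoly ∣ S * (X + 1)) : aeval g.1.1 S = 0 := by
  classical
  set A := g.1.1 with hA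
  set χ := A.charpoly with hχ
  set m := χ.rootMultiplicity (-1) with hm
  have hX : X - C (-1 : F) = X + 1 := by rw [map_neg, C_1, sub_neg_eq_add]
  have hχ0 : χ ≠ 0 := (Matrix.charpoly_monic A).ne_zero
  obtain ⟨R, hR, hRndvd⟩ := exists_eq_pow_rootMultiplicity_mul_and_not_dvd χ hχ0 (-1)
  rw [← hm, hX] at hR
  rw [hX] at hRndvd
  have hirr : Irreducible (X + 1 : F[X]) := hX ▸ irreducible_X_sub_C (-1)
  have hcop : IsCoprime (X + 1 : F[X]) R := hirr.coprime_iff_not_dvd.mpr hRndvd
  by_cases hm0 : m = 0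
  · rw [hm0, pow_zero, one_mul] at hR
    obtain ⟨T, hT⟩ := (hR ▸ hcop.symm : IsCoprime χ (X + 1)).dvd_of_dvd_mul_right hS
    rw [hT, map_mul, Matrix.aeval_self_charpoly, zero_mul]
  obtain ⟨T, hT⟩ : (X + 1) ^ (m - 1) * R ∣ S := by
    refine (mul_dvd_mul_iff_right (hirr.ne_zero)).mp ?_
    rwa [mul_right_comm, ← pow_succ, show m - 1 + 1 = m by omega, ← hR]
  suffices key : aeval A ((X + 1) ^ (m - 1) * R) = 0 by rw [hT, map_mul, key, zero_mul]
  have hmodd : Odd (m - 1) := Nat.Even.sub_odd (by omega) hev odd_one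
  -- as endomorphisms
  set f : Module.End F (ι → F) := Matrix.toLinAlgEquiv' A with hf
  have hfapp : ∀ x, f x = A *ᵥ x := fun x => rfl
  refine Matrix.toLinAlgEquiv'.injective ?_
  rw [map_zero, ← Polynomial.aeval_algHom_apply Matrix.toLinAlgEquiv', ← hf]
  have hfχ : f.charpoly = χ := Matrix.charpoly_toLin' A
  set N : Module.End F (ι → F) := f + 1 with hN
  have hNX : aeval f (X + 1 : F[X]) = N := by simp [hN]
  have hp : ∀ a b, polar Q (f a) (f b) = polar Q a b := fun a b => polar_mulVec Q g a b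
  have hadj : ∀ a b, polar Q (N a) b = polar Q (f a) (N b) := fun a b => by
    simp only [hN, LinearMap.add_apply, Module.End.one_apply]
    rw [polar_add_left, polar_add_right, hp, add_comm]
  have hfN : ∀ (k : ℕ) a, f ((N ^ k) a) = (N ^ k) (f a) := fun k a => by
    have h1 : Commute f (N ^ k) := ((Commute.refl f).add_right (Commute.one_right f)).pow_right k
    exact LinearMap.congr_fun h1.eq a
  have hadjk : ∀ (k : ℕ) a b, polar Q ((N ^ k) a) b = polar Q ((f ^ k) a) ((N ^ k) b) := by
    intro k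
    induction k with
    | zero => intro a b; simp
    | succ k ih =>
      intro a b
      rw [pow_succ' N, Module.End.mul_apply, hadj, hfN, ih, pow_succ f, Module.End.mul_apply,
        ← Module.End.mul_apply (N ^ k) N, ← pow_succ, ← pow_succ']
  set E : Submodule F (ι → F) := LinearMap.ker (N ^ m) with hE
  have hEdim : finrank F E ≤ m := by
    rw [hm, ← hfχ, ← LinearMap.finrank_maxGenEigenspace_eq]
    refine Submodule.finrank_mono fun x hx => ?_
    rw [Module.End.mem_maxGenEigenspace]
    refine ⟨m, ?_⟩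
    rw [show f - (-1 : F) • (1 : Module.End F (ι → F)) = N by
      exact LinearMap.ext fun v => by simp [hN]]
    exact hx
  have hinv : ∀ x ∈ E, N x ∈ E := fun x hx => by
    show (N ^ m) (N x) = 0
    rw [← Module.End.mul_apply, ← pow_succ, pow_succ', Module.End.mul_apply, hx, map_zero]
  obtain ⟨gE, hgE⟩ : ∃ gE : Module.End F E, gE = N.restrict hinv := ⟨_, rfl⟩
  have hgpow : ∀ (i : ℕ) (x : E), ((gE ^ i) x : ι → F) = (N ^ i) (x : ι → F) := by
    intro i
    induction i with
    | zero => intro x; rfl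
    | succ i ih =>
      intro x
      rw [pow_succ, pow_succ, Module.End.mul_apply, Module.End.mul_apply, ih, hgE]; rfl
  have hnil : IsNilpotent gE := ⟨m, LinearMap.ext fun x => Subtype.ext ((hgpow m x).trans x.2)⟩
  -- the image lies in the radical
  have hrad : ∀ w ∈ E, (N ^ (m - 1)) w = 0 := by
    intro w hw
    by_cases hk : 2 ≤ finrank F (LinearMap.ker gE)
    · have h1 := CfsgLib.SpecSp8.nilpotent_index gE hnil hk
      have h2' : finrank F (LinearMap.ker gE) ≤ finrank F E := Submodule.finrank_le _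
      rw [show m - 1 = (m - finrank F E) + (finrank F E - 1) by omega, pow_add, Module.End.mul_apply,
        ← hgpow _ ⟨w, hw⟩, h1]
      simp
    have hN1 : ∀ x ∈ E, f ((N ^ (m - 1)) x) = -((N ^ (m - 1)) x) := fun x hx => by
      have h1 : N ((N ^ (m - 1)) x) = 0 := by
        rw [← Module.End.mul_apply, ← pow_succ', show m - 1 + 1 = m by omega]; exact hx
      rw [hN, LinearMap.add_apply, Module.End.one_apply] at h1
      exact eq_neg_of_add_eq_zero_left h1
    have hperpN : ∀ x ∈ E, ∀ b, polar Q ((N ^ (m - 1)) x) (N b) = 0 := fun x hx b => by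
      set y := (N ^ (m - 1)) x with hy
      have h1 : y = f (-y) := by rw [map_neg, hN1 x hx, neg_neg]
      have h3 : N (-y) = 0 := by
        rw [hN, LinearMap.add_apply, Module.End.one_apply, map_neg, hN1 x hx]; simp [hy]
      rw [h1, ← hadj, h3, polar_zero_left]
    have hanti : ∀ a ∈ E, ∀ b ∈ E, polar Q ((N ^ (m - 1)) a) b = -polar Q ((N ^ (m - 1)) b) a := fun a _ b hb => by
      set y := (N ^ (m - 1)) b with hy
      have h1 : ∀ k : ℕ, (f ^ k) y = (-1 : F) ^ k • y := by
        intro k
        induction k with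
        | zero => simp
        | succ k ih =>
          rw [pow_succ' f, Module.End.mul_apply, ih, map_smul, hN1 b hb, smul_neg, pow_succ, mul_smul,
            neg_one_smul, smul_neg]
      have hpk : ∀ (k : ℕ) u v, polar Q ((f ^ k) u) ((f ^ k) v) = polar Q u v := by
        intro k
        induction k with
        | zero => intro u v; simp
        | succ k ih => intro u v; rw [pow_succ' f, Module.End.mul_apply, Module.End.mul_apply, hp, ih]
      have h4 := hpk (m - 1) a y
      rw [h1, hmodd.neg_one_pow, neg_one_smul, polar_neg_right, ← hadjk] at h4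
      rw [polar_comm Q y a]
      linear_combination -h4
    obtain ⟨e, he⟩ : ∃ e : E, (F ∙ e) ⊔ LinearMap.range gE = ⊤ := by
      by_cases htop : LinearMap.range gE = ⊤
      · exact ⟨0, by rw [htop, sup_top_eq]⟩
      obtain ⟨e, -, he⟩ := SetLike.exists_of_lt (lt_top_iff_ne_top.mpr htop)
      refine ⟨e, Submodule.eq_top_of_finrank_eq (le_antisymm (Submodule.finrank_le _) ?_)⟩
      have h1 := LinearMap.finrank_range_add_finrank_ker gE
      have h3 := Submodule.finrank_lt_finrank_of_lt (show LinearMap.range gE < (F ∙ e) ⊔ LinearMap.range gE from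
        lt_of_le_of_ne le_sup_right fun h => he (h ▸ Submodule.mem_sup_left (Submodule.mem_span_singleton_self e)))
      omega
    have hsplit : ∀ x ∈ E, ∃ c : F, ∃ x', x = c • (e : ι → F) + N x' := fun x hx => by
      have h1 : (⟨x, hx⟩ : E) ∈ (F ∙ e) ⊔ LinearMap.range gE := he ▸ Submodule.mem_top
      obtain ⟨_, hc, _, ⟨x', rfl⟩, hsum⟩ := Submodule.mem_sup.mp h1
      obtain ⟨c, rfl⟩ := Submodule.mem_span_singleton.mp hc
      refine ⟨c, x', ?_⟩
      have := congrArg Subtype.val hsum
      rw [hgE] at this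
      exact this.symm
    have hee : polar Q ((N ^ (m - 1)) (e : ι → F)) (e : ι → F) = 0 := by
      have h1 := hanti e e.2 e e.2
      exact (mul_eq_zero.mp (by linear_combination h1 :
        (2 : F) * polar Q ((N ^ (m - 1)) (e : ι → F)) (e : ι → F) = 0)).resolve_left h2
    have hzero : ∀ a ∈ E, ∀ b ∈ E, polar Q ((N ^ (m - 1)) a) b = 0 := fun a ha b hb => by
      have h1 : ∀ x ∈ E, polar Q ((N ^ (m - 1)) x) (e : ι → F) = 0 := fun x hx => by
        obtain ⟨c, x', hx'⟩ := hsplit x hx
        have := hanti x hx e e.2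
        rw [hx', polar_add_right, polar_smul_right, hee, smul_zero, zero_add, hperpN e e.2, neg_zero] at this
        rwa [← hx'] at this
      obtain ⟨c, b', hb'⟩ := hsplit b hb
      rw [hb', polar_add_right, polar_smul_right, h1 a ha, smul_zero, zero_add, hperpN a ha]
    refine hQ.1 _ fun z => ?_
    rw [polarBilin_apply_apply]
    obtain ⟨u, v, huv⟩ := (hcop.pow_left (m := m)).symm
    have hz : z = aeval f (u * R) z + (N ^ m) (aeval f v z) := by
      conv_lhs => rw [← Module.End.one_apply (R := F) z, ← map_one (aeval (R := F) f), ← huv, map_add,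
        LinearMap.add_apply]
      congr 1
      rw [mul_comm v, map_mul, map_pow, hNX, Module.End.mul_apply]
    have hmem : aeval f (u * R) z ∈ E := by
      show (N ^ m) _ = 0
      rw [← hNX, ← map_pow, ← Module.End.mul_apply, ← map_mul, mul_left_comm, ← hR, map_mul, ← hfχ,
        LinearMap.aeval_self_charpoly, mul_zero]
      rfl
    rw [hz, polar_add_right, hzero w hw _ hmem, zero_add, show m = m - 1 + 1 by omega, pow_succ',
      Module.End.mul_apply, show m - 1 + 1 - 1 = m - 1 by omega, hperpN w hw]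
  refine LinearMap.ext fun v => ?_
  rw [map_mul, map_pow, hNX, Module.End.mul_apply, hrad _ ?_, LinearMap.zero_apply]
  show (N ^ m) _ = 0
  rw [← hNX, ← map_pow, ← Module.End.mul_apply, ← map_mul, ← hR, ← hfχ, LinearMap.aeval_self_charpoly]
  rfl

theorem rootMultiplicity_neg_even (hQ : (polarBilin Q).Nondegenerate) (h2 : (2 : F) ≠ 0)
    (g : Cfsg.isometryGroup F ⇑Q) (hdet : g.1.1.det = 1) :
    Even (g.1.1.charpoly.rootMultiplicity (-1)) := by
  classical
  let Ω := AlgebraicClosure F
  set i0 := algebraMap F Ω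
  set Ab := g.1.1.map i0
  obtain ⟨hinv, h0⟩ := roots_inv_of_form Ab ((polarMat ⇑Q).map i0)
    (by
      rw [← RingHom.mapMatrix_apply, ← RingHom.map_det]
      exact fun h => polarMat_det_ne_zero hQ (i0.injective (by rw [h, map_zero])))
    (by simp only [Ab]; rw [← Matrix.transpose_map, ← Matrix.map_mul, ← Matrix.map_mul, gram_iso])
  have hc : ∀ t : Ω, Ab.charpoly.roots.count t⁻¹ = Ab.charpoly.roots.count t := fun t => by
    nth_rewrite 1 [← hinv]
    rw [Multiset.count_map_eq_count' _ _ inv_injective]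
  have hprod : Ab.charpoly.roots.prod = 1 := by
    rw [← Matrix.det_eq_prod_roots_charpoly, show Ab = i0.mapMatrix g.1.1 from rfl, ← RingHom.map_det, hdet, map_one]
  have := even_count_neg_one (fun h => h2 (i0.injective (by rw [map_ofNat, h, map_zero]))) _ h0 hc hprod
  rwa [Polynomial.count_roots, Matrix.charpoly_map, show (-1 : Ω) = i0 (-1) by simp,
    ← Polynomial.eq_rootMultiplicity_map i0.injective] at this

/-- The `p`-part of a target. -/
def ppart (p A : ℕ) : ℕ := p ^ Nat.clog p (2 * A)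

theorem ppart_bound {p : ℕ} (hp : p.Prime) (hp2 : p ≠ 2) (A : ℕ) : 2 * A + 1 ≤ ppart p A := by
  have h1 := Nat.le_pow_clog hp.one_lt (2 * A)
  have h3 : Odd (ppart p A) := (hp.odd_of_ne_two hp2).pow
  obtain ⟨k, hk⟩ := h3
  unfold ppart at *
  omega

theorem target_pos {q : ℕ} (hq : 2 ≤ q) (hodd : Odd q) {AM : ℕ × ℕ} (h : AM ∈ targets q) : 0 < AM.2 := by
  have h3 : 3 ≤ q := by obtain ⟨j, rfl⟩ := hodd; omega
  have e2 := Nat.pow_le_pow_left h3 2
  have e3 := Nat.pow_le_pow_left h3 3
  have e4 := Nat.pow_le_pow_left h3 4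
  simp only [targets, List.mem_cons, List.not_mem_nil, or_false] at h
  rcases h with rfl | rfl | rfl | rfl | rfl | rfl | rfl | rfl | rfl | rfl | rfl | rfl | rfl | rfl <;>
    dsimp only <;> norm_num at * <;>
    first | omega | exact Nat.mul_pos (by omega) (by omega) | (constructor <;> omega)

/-- The characteristic polynomial of an element of `Ω₉`. -/
theorem charpoly_dvd_target (h2 : (2 : F) ≠ 0) (hQ : (polarBilin Q).Nondegenerate) (hn : Fintype.card ι = 9)
    (g : Cfsg.isometryGroup F ⇑Q) (hdet : g.1.1.det = 1) (hsgn : sgn Q g = 1) (p : ℕ) [Fact p.Prime] [CharP F p] :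
    ∃ AM ∈ targets (Fintype.card F),
      g.1.1.charpoly ∣ (X ^ (ppart p AM.1 * AM.2) - 1) * (X + 1) := by
  classical
  have hp : p.Prime := Fact.out
  have hp2 : p ≠ 2 := fun h => h2 (by subst h; exact CharTwo.two_eq_zero)
  obtain ⟨a, -, hF⟩ := FiniteField.card F p
  let Ω := AlgebraicClosure F
  set i0 := algebraMap F Ω with hi0
  haveI : CharP Ω p := charP_of_injective_algebraMap i0.injective p
  set q := Fintype.card F with hq
  have hq2 : 2 ≤ q := Fintype.one_lt_card
  have hqodd : Odd q := hF ▸ (hp.odd_of_ne_two hp2).pow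
  set fr : Ω →+* Ω := iterateFrobenius Ω p a with hfr
  have hfrx : ∀ x : Ω, fr x = x ^ q := fun x => by rw [hfr, iterateFrobenius_def, hF]
  have hfrι : ∀ x : F, fr (i0 x) = i0 x := fun x => by rw [hfrx, ← map_pow, hq, FiniteField.pow_card]
  set Ab := g.1.1.map i0 with hAb
  set R := Ab.charpoly.roots with hR
  obtain ⟨hinv, h0⟩ := roots_inv_of_form Ab ((polarMat ⇑Q).map i0)
    (by
      rw [← RingHom.mapMatrix_apply, ← RingHom.map_det]
      exact fun h => polarMat_det_ne_zero hQ (i0.injective (by rw [h, map_zero])))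
    (by rw [hAb, ← Matrix.transpose_map, ← Matrix.map_mul, ← Matrix.map_mul, gram_iso])
  have hcard : Multiset.card R = 9 := by
    rw [hR, IsAlgClosed.card_roots_eq_natDegree, Matrix.charpoly_natDegree_eq_dim, hn]
  have hrotq : R.map fr = R := by
    have h := (IsAlgClosed.splits Ab.charpoly).roots_map fr
    rw [← Matrix.charpoly_map, show Ab.map fr = Ab by ext x y; exact hfrι _] at h
    exact h.symm
  have h2Ω : (2 : Ω) ≠ 0 := fun h => h2 (i0.injective (by rw [map_ofNat, h, map_zero]))
  have hcinv : ∀ t : Ω, R.count t⁻¹ = R.count t := fun t => by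
    rw [hR]
    nth_rewrite 1 [← hinv]
    rw [Multiset.count_map_eq_count' _ _ inv_injective]
  have hprod : R.prod = 1 := by
    rw [hR, ← Matrix.det_eq_prod_roots_charpoly, show Ab = i0.mapMatrix g.1.1 from rfl, ← RingHom.map_det, hdet,
      map_one]
  have D : RootData q R :=
    { odd := hqodd
      two_le := hq2
      two := h2Ω
      card := hcard
      ne_zero := h0
      frob := fun t => by
        nth_rewrite 1 [← hrotq]
        rw [← hfrx, Multiset.count_map_eq_count' _ R fr.injective]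
      inv := hcinv
      inj := fun x y hxy => fr.injective (by rw [hfrx, hfrx]; exact hxy)
      even := even_count_neg_one h2Ω R h0 hcinv hprod }
  have hqchar : ∀ (i : ℕ) (x y : Ω), (x + y) ^ q ^ i = x ^ q ^ i + y ^ q ^ i := fun i x y => by
    rw [hF, ← pow_mul, add_pow_char_pow]
  have hiq : ∀ (i : ℕ) (x : F), i0 x ^ q ^ i = i0 x := fun i x => by rw [← map_pow, hq, FiniteField.pow_card_pow]
  -- the spinor condition
  have hhalf : ∀ t d, NS R t → Deg q t d → R.count t = 1 → (∀ u ∈ R, u = 1 ∨ u ∈ orb q d t) →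
      t ^ ((q ^ d - 1) / 2) = 1 ∨ t ^ ((q ^ d + 1) / 2) = 1 := by
    intro t d ht hd hc1 hall
    obtain ⟨ho1, ho2⟩ := D.special_notMem (d := d) ht.2.1 ht.2.2
    obtain ⟨hocard, hoinj⟩ := D.card_orb ht hd.2.2
    have hRsplit : R = Multiset.replicate (R.count 1) 1 + (orb q d t).val := by
      ext u
      rw [Multiset.count_add, Multiset.count_replicate]
      by_cases hu1 : u = 1
      · rw [hu1, if_pos rfl, Multiset.count_eq_zero.mpr ho1, add_zero]
      · rw [if_neg (Ne.symm hu1), zero_add]
        by_cases hu : u ∈ orb q d t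
        · rw [Multiset.count_eq_one_of_mem (orb q d t).nodup hu, D.count_orb hu, hc1]
        · rw [Multiset.count_eq_zero.mpr hu, Multiset.count_eq_zero]
          exact fun h => (hall u h).elim hu1 hu
    have hm1 : (-1 : Ω) ∉ R := fun h => (hall _ h).elim (fun e => D.one_ne_neg e.symm) ho2
    have hX : i0 ((g.1.1 + 1).det * 2 ^ Fintype.card ι) = (R.map fun u => 2 * (1 + u)).prod := by
      have h1 : Ab.charpoly.eval (-1) = (R.map fun u => -1 - u).prod := by
        conv_lhs => rw [(IsAlgClosed.splits Ab.charpoly).eq_prod_roots_of_monic (Matrix.charpoly_monic _)]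
        rw [eval_multiset_prod, Multiset.map_map]
        simp [hR, Function.comp_def]
      have h3 : i0 (g.1.1 + 1).det = (-1) ^ 9 * Ab.charpoly.eval (-1) := by
        have h4 : Matrix.scalar ι (-1 : Ω) - Ab = -(i0.mapMatrix (g.1.1 + 1)) := by
          rw [map_add, map_one, map_neg, map_one, neg_add_rev, ← sub_eq_add_neg]
          rfl
        rw [RingHom.map_det, Matrix.eval_charpoly, h4, Matrix.det_neg, hn, ← mul_assoc, ← pow_add]
        norm_num
      rw [map_mul, map_pow, map_ofNat, h3, h1, hn, ← hcard, mul_comm, ← mul_assoc, ← mul_pow,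
        ← Multiset.prod_replicate, ← Multiset.map_const', ← Multiset.prod_map_mul]
      exact congrArg Multiset.prod (Multiset.map_congr rfl fun u _ => by ring)
    have hx0 : (g.1.1 + 1).det * 2 ^ Fintype.card ι ≠ 0 := fun h => by
      rw [h, map_zero, eq_comm, Multiset.prod_eq_zero_iff, Multiset.mem_map] at hX
      obtain ⟨u, hu, he⟩ := hX
      exact hm1 ((eq_neg_of_add_eq_zero_right ((mul_eq_zero.mp he).resolve_left h2Ω)) ▸ hu)
    have hsq : ((R.map fun u => 2 * (1 + u)).prod) ^ ((q - 1) / 2) = 1 := by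
      have h1 := sgn_of_det_add Q h2 hQ g (left_ne_zero_of_mul hx0)
      rw [hsgn, eq_comm, sg_eq_one_iff, FiniteField.isSquare_iff
        (fun h => hp2 ((ringChar.eq F p).symm.trans h)) hx0] at h1
      rw [← hX, ← map_pow, show (q - 1) / 2 = q / 2 by obtain ⟨j, hj⟩ := hqodd; omega, hq, h1, map_one]
    have hq12 : (q - 1) / 2 * 2 = q - 1 := by obtain ⟨j, hj⟩ := hqodd; omega
    have htwo : (2 : Ω) ^ (q - 1) = 1 := by
      rw [← map_ofNat i0 2, ← map_pow, hq, FiniteField.pow_card_sub_one_eq_one _ h2, map_one]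
    have hfour : (4 : Ω) ^ ((q - 1) / 2) = 1 := by
      rw [show (4 : Ω) = 2 ^ 2 by norm_num, ← pow_mul, mul_comm, hq12, htwo]
    set H := (q ^ d - 1) / 2 with hH
    have hS : (∑ i ∈ Finset.range d, q ^ i) * ((q - 1) / 2) = H := by
      have h1 := geom_sum_mul_add (q - 1) d
      rw [show q - 1 + 1 = q by omega] at h1
      rw [hH]
      refine (Nat.div_eq_of_eq_mul_left two_pos ?_).symm
      rw [mul_assoc, hq12]
      omega
    set z := 4 * (1 + t) ^ 2 * t⁻¹ with hz
    have horb : ∏ u ∈ orb q d t, 2 * (1 + u) = z ^ ∑ i ∈ Finset.range d, q ^ i := by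
      rw [orb, Finset.prod_image hoinj, Finset.prod_product, ← Finset.prod_pow_eq_pow_sum]
      refine Finset.prod_congr rfl fun i _ => ?_
      have hx : t ^ q ^ i ≠ 0 := pow_ne_zero _ (D.ne_zero' ht.1)
      have h4 : (4 : Ω) ^ q ^ i = 4 := by have := hiq i 4; rwa [map_ofNat] at this
      rw [hz, mul_pow, mul_pow, h4, ← pow_mul, mul_comm 2, pow_mul, hqchar, one_pow, inv_pow,
        Fintype.univ_bool, Finset.prod_pair (by simp)]
      simp only [cond_true, cond_false]
      linear_combination (-(4 * (1 + t ^ q ^ i))) * (mul_inv_cancel₀ hx)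
    have hzH : z ^ H = 1 := by
      rw [hRsplit, Multiset.map_add, Multiset.prod_add, Multiset.map_replicate, Multiset.prod_replicate, mul_pow,
        show ((orb q d t).val.map fun u => 2 * (1 + u)).prod = ∏ u ∈ orb q d t, 2 * (1 + u) from rfl, horb,
        ← pow_mul, ← pow_mul, hS, mul_comm _ ((q - 1) / 2), pow_mul,
        show (2 : Ω) * (1 + 1) = 4 by norm_num, hfour, one_pow, one_mul] at hsq
      exact hsq
    have hqd : 1 ≤ q ^ d := Nat.one_le_pow _ _ (by omega)
    have hqdodd : Odd (q ^ d) := hqodd.pow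
    have h2H : H * 2 = q ^ d - 1 := by obtain ⟨j, hj⟩ := hqdodd; omega
    have h4H : (4 : Ω) ^ H = 1 := by rw [← hS, mul_comm, pow_mul, hfour, one_pow]
    rw [hz, mul_pow, mul_pow, h4H, one_mul, ← pow_mul, mul_comm 2 H, h2H, inv_pow] at hzH
    have ht1 : (1 : Ω) + t ≠ 0 := fun h => ht.2.2 (eq_neg_of_add_eq_zero_right h)
    have hp' : (1 + t) ^ (q ^ d - 1) * (1 + t) = 1 + t ^ q ^ d := by
      rw [← pow_succ, Nat.sub_add_cancel hqd, hqchar, one_pow]
    rcases hd.2.1 with h | h
    · left
      rw [h] at hp'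
      have : (1 + t) ^ (q ^ d - 1) = 1 := mul_right_cancel₀ ht1 (by rw [hp', one_mul])
      rw [this, one_mul] at hzH
      exact inv_eq_one.mp hzH
    · right
      have ht0 := D.ne_zero' ht.1
      rw [h] at hp'
      have : (1 + t) ^ (q ^ d - 1) = t⁻¹ := mul_right_cancel₀ ht1 (by rw [hp']; linear_combination -(inv_mul_cancel₀ ht0))
      rw [this, ← mul_inv, inv_eq_one, ← pow_succ'] at hzH
      rw [show (q ^ d + 1) / 2 = H + 1 by omega]
      exact hzH
  obtain ⟨AM, hAM, h⟩ := D.target_of_roots hhalf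
  refine ⟨AM, hAM, (Polynomial.map_dvd_map i0 i0.injective (Matrix.charpoly_monic _)).mp ?_⟩
  rw [← Matrix.charpoly_map, Polynomial.map_mul, Polynomial.map_sub, Polynomial.map_add, Polynomial.map_pow,
    map_X, Polynomial.map_one, ← hAb]
  have hM := target_pos hq2 hqodd hAM
  have hpow : (X ^ AM.2 - C 1 : Polynomial Ω) ^ ppart p AM.1 = X ^ (ppart p AM.1 * AM.2) - 1 := by
    rw [ppart, sub_pow_char_pow, C_1, one_pow, ← pow_mul, mul_comm]
  rw [← hpow]
  refine (IsAlgClosed.splits _).dvd_of_roots_le_roots (Matrix.charpoly_monic Ab).ne_zero ?_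
  have hne : (X ^ AM.2 - C 1 : Polynomial Ω) ≠ 0 := X_pow_sub_C_ne_zero hM 1
  have hne1 : (X + 1 : Polynomial Ω) ≠ 0 := by simpa using X_sub_C_ne_zero (-1 : Ω)
  rw [Multiset.le_iff_count]
  intro t
  by_cases ht : t ∈ R
  · rw [Polynomial.roots_mul (mul_ne_zero (pow_ne_zero _ hne) hne1), Multiset.count_add, Polynomial.roots_pow,
      Multiset.count_nsmul]
    have h1 : 1 ≤ (X ^ AM.2 - C 1 : Polynomial Ω).roots.count t := Multiset.one_le_count_iff_mem.mpr
      ((mem_roots hne).mpr (by simp [(h t ht).1]))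
    have h3 : (if t = -1 then 1 else 0) ≤ (X + 1 : Polynomial Ω).roots.count t := by
      split_ifs with h'
      · exact Multiset.one_le_count_iff_mem.mpr ((mem_roots hne1).mpr (by simp [h']))
      · exact Nat.zero_le _
    refine (h t ht).2.trans (add_le_add ?_ h3)
    exact (ppart_bound hp hp2 _).trans (Nat.le_mul_of_pos_right _ h1)
  · rw [← hR, Multiset.count_eq_zero.mpr ht]; exact Nat.zero_le _

end CfsgLib.SpecO9
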