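import Cfsg.Agent.Lib.SpecO9.Spinor
import Cfsg.Agent.Lib.SpecSp8.Space
import Cfsg.Agent.Lib.SemisimplePrimeClasses.OrthModels

/-!
Spaces of a given dimension and discriminant, orthogonal sums, and witnesses for element orders.
-/

set_option autoImplicit false
set_option linter.unusedSectionVars false
set_option maxHeartbeats 1000000

namespace CfsgLib.SpecO9

open QuadraticMap Module CfsgLib.FiniteForms CfsgLib.OmegaSum CfsgLib.SpinorMatrix CfsgLib.SpinorNorm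
  CfsgLib.SemisimplePrimeClasses
open scoped Matrix

variable {F : Type*} [Field F] [Fintype F] {ι κ : Type} [Fintype ι] [DecidableEq ι] [Fintype κ] [DecidableEq κ]

/-- A nonsingular space of dimension `2 * d` and discriminant class `ε`. -/
structure Typ (Q : QuadraticForm F (ι → F)) (d : ℕ) (ε : ℤˣ) : Prop where
  card : Fintype.card ι = 2 * d
  nondeg : (polarBilin Q).Nondegenerate
  disc : sg ((-1) ^ d * (polarMat ⇑Q).det) = ε

/-- The translation part of a power in the semidirect product. -/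
def geoV {Q : QuadraticForm F (ι → F)} (g : Cfsg.isometryGroup F ⇑Q) (n : ℕ) (v : ι → F) : ι → F :=
  ∑ i ∈ Finset.range n, (g ^ i).1.1 *ᵥ v

/-- An element of the (affine) special isometry group whose order is a multiple of `N`, of spinor sign `s`. -/
def Wit (aff : Prop) (Q : QuadraticForm F (ι → F)) (N : ℕ) (s : ℤˣ) : Prop :=
  ∃ (g : Cfsg.isometryGroup F ⇑Q) (v : ι → F), g.1.1.det = 1 ∧ sgn Q g = s ∧ (¬aff → v = 0) ∧
    ∀ n : ℕ, g ^ n = 1 → geoV g n v = 0 → N ∣ n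

theorem Wit.linear {Q : QuadraticForm F (ι → F)} (g : Cfsg.isometryGroup F ⇑Q) {N : ℕ} {s : ℤˣ}
    (hd : g.1.1.det = 1) (hs : sgn Q g = s) (hN : ∀ n : ℕ, g ^ n = 1 → N ∣ n) : Wit False Q N s :=
  ⟨g, 0, hd, hs, fun _ => rfl, fun n hn _ => hN n hn⟩

theorem Wit.mono {aff : Prop} {Q : QuadraticForm F (ι → F)} {N : ℕ} {s : ℤˣ} (h : Wit False Q N s) :
    Wit aff Q N s := by
  obtain ⟨g, v, hd, hs, hv, hN⟩ := h
  exact ⟨g, v, hd, hs, fun _ => hv id, hN⟩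

/-- The square of an element of twice the order. -/
theorem Wit.sq {Q : QuadraticForm F (ι → F)} {N : ℕ} {s : ℤˣ} (h : Wit False Q (2 * N) s) : Wit False Q N 1 := by
  obtain ⟨g, v, hd, hs, hv, hN⟩ := h
  refine Wit.linear (g ^ 2) ?_ (by rw [map_pow, Int.units_sq]) fun n hn => ?_
  · show (g.1 ^ 2).1.det = 1
    rw [Units.val_pow_eq_pow_val, Matrix.det_pow, hd, one_pow]
  · refine Nat.dvd_of_mul_dvd_mul_left two_pos (hN (2 * n) (by rw [pow_mul, hn]) ?_)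
    rw [hv id, geoV]
    simp

section Sum

variable (Q₁ : QuadraticForm F (ι → F)) (Q₂ : QuadraticForm F (κ → F))

theorem polarMat_Qs : polarMat ⇑(Qs Q₁ Q₂) = Matrix.fromBlocks (polarMat ⇑Q₁) 0 0 (polarMat ⇑Q₂) := by
  have hl : ∀ i : ι, (Pi.single (Sum.inl i) (1 : F) : ι ⊕ κ → F) = Sum.elim (Pi.single i 1) (0 : κ → F) := fun i => by
    funext s; rcases s with s | s <;> simp [Pi.single_apply]
  have hr : ∀ i : κ, (Pi.single (Sum.inr i) (1 : F) : ι ⊕ κ → F) = Sum.elim (0 : ι → F) (Pi.single i 1) := fun i => by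
    funext s; rcases s with s | s <;> simp [Pi.single_apply]
  ext i j
  rcases i with i | i <;> rcases j with j | j <;>
    simp only [polarMat, Matrix.of_apply, hl, hr, polar_Qs, Sum.elim_comp_inl, Sum.elim_comp_inr,
      Matrix.fromBlocks_apply₁₁, Matrix.fromBlocks_apply₁₂, Matrix.fromBlocks_apply₂₁, Matrix.fromBlocks_apply₂₂,
      Matrix.zero_apply, polar_zero_left, polar_zero_right, add_zero, zero_add]

theorem det_Qs : (polarMat ⇑(Qs Q₁ Q₂)).det = (polarMat ⇑Q₁).det * (polarMat ⇑Q₂).det := by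
  rw [polarMat_Qs, Matrix.det_fromBlocks_zero₂₁]

/-- The product of two isometry groups inside that of the orthogonal sum. -/
def sumHom : Cfsg.isometryGroup F ⇑Q₁ × Cfsg.isometryGroup F ⇑Q₂ →* Cfsg.isometryGroup F ⇑(Qs Q₁ Q₂) where
  toFun p :=
    ⟨{ val := Matrix.fromBlocks p.1.1.1 0 0 p.2.1.1
       inv := Matrix.fromBlocks (p.1⁻¹).1.1 0 0 (p.2⁻¹).1.1
       val_inv := by
        rw [Matrix.fromBlocks_multiply]
        simp [← Matrix.fromBlocks_one]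
       inv_val := by
        rw [Matrix.fromBlocks_multiply]
        simp [← Matrix.fromBlocks_one] },
      fun u _ => by
        show Qs Q₁ Q₂ (Matrix.fromBlocks p.1.1.1 0 0 p.2.1.1 *ᵥ u) = Qs Q₁ Q₂ u
        rw [Matrix.fromBlocks_mulVec, Qs_apply, Qs_apply, Sum.elim_comp_inl, Sum.elim_comp_inr,
          Matrix.zero_mulVec, Matrix.zero_mulVec, add_zero, zero_add]
        exact congrArg₂ (· + ·) (p.1.2 _ (u ∘ Sum.inl)) (p.2.2 _ (u ∘ Sum.inr))⟩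
  map_one' := Subtype.ext (Units.ext (by
    show Matrix.fromBlocks (1 : Matrix ι ι F) 0 0 (1 : Matrix κ κ F) = 1
    exact Matrix.fromBlocks_one))
  map_mul' p p' := Subtype.ext (Units.ext (by
    show Matrix.fromBlocks (p.1.1.1 * p'.1.1.1) 0 0 (p.2.1.1 * p'.2.1.1) =
      Matrix.fromBlocks p.1.1.1 0 0 p.2.1.1 * Matrix.fromBlocks p'.1.1.1 0 0 p'.2.1.1
    rw [Matrix.fromBlocks_multiply]; simp))

theorem sumHom_val (p : Cfsg.isometryGroup F ⇑Q₁ × Cfsg.isometryGroup F ⇑Q₂) :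
    (sumHom Q₁ Q₂ p).1.1 = Matrix.fromBlocks p.1.1.1 0 0 p.2.1.1 := rfl

theorem refl_right (v : κ → F) :
    Cfsg.reflectionMatrix (⇑(Qs Q₁ Q₂)) (Sum.elim 0 v) =
      Matrix.fromBlocks 1 0 0 (Cfsg.reflectionMatrix (⇑Q₂) v) := by
  refine Matrix.ext_of_mulVec_single fun s => ?_
  rw [CfsgLib.PolarVec.reflection_mulVec, Qs_apply, polar_Qs, Sum.elim_comp_inl, Sum.elim_comp_inr,
    Matrix.fromBlocks_mulVec, Matrix.zero_mulVec, Matrix.zero_mulVec, Matrix.one_mulVec,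
    CfsgLib.PolarVec.reflection_mulVec, QuadraticMap.map_zero, polar_zero_left]
  funext x
  rcases x with x | x <;> simp

theorem sgn_refl (Q : QuadraticForm F (ι → F)) (h2 : (2 : F) ≠ 0) {v : ι → F} (hv : Q v ≠ 0) :
    sgn Q ((isoEquiv Q).symm (refl Q hv)) = -sg (Q v) := by
  classical
  show levelSign Q 1 (isoEquiv Q ((isoEquiv Q).symm (refl Q hv))) = _
  rw [MulEquiv.apply_symm_apply, levelSign_refl Q h2 hv one_ne_zero, one_mul]
  unfold sg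
  by_cases h : IsSquare (Q v) <;> simp [h]

theorem sgn_sum (h2 : (2 : F) ≠ 0) (h₁ : (polarBilin Q₁).Nondegenerate) (h₂ : (polarBilin Q₂).Nondegenerate)
    (p : Cfsg.isometryGroup F ⇑Q₁ × Cfsg.isometryGroup F ⇑Q₂) :
    sgn (Qs Q₁ Q₂) (sumHom Q₁ Q₂ p) = sgn Q₁ p.1 * sgn Q₂ p.2 := by
  classical
  have hl : ∀ x, sgn (Qs Q₁ Q₂) (sumHom Q₁ Q₂ (x, 1)) = sgn Q₁ x := by
    intro x
    obtain ⟨y, rfl⟩ := (isoEquiv Q₁).symm.surjective x
    refine closure_induction_refl Q₁ (hc_odd Q₁ h2 h₁) (fun y =>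
      sgn (Qs Q₁ Q₂) (sumHom Q₁ Q₂ ((isoEquiv Q₁).symm y, 1)) = sgn Q₁ ((isoEquiv Q₁).symm y)) ?_ ?_ y
    · rw [map_one, Prod.mk_one_one, map_one, map_one, map_one]
    · intro v hv a ha
      have hv' : Qs Q₁ Q₂ (Sum.elim v 0) ≠ 0 := by rwa [Qs_left]
      have he : sumHom Q₁ Q₂ ((isoEquiv Q₁).symm (refl Q₁ hv), 1) =
          (isoEquiv _).symm (refl (Qs Q₁ Q₂) hv') := Subtype.ext (Units.ext (by
        rw [sumHom_val, CfsgLib.OmegaList.symm_refl_matrix, CfsgLib.OmegaList.symm_refl_matrix, refl_left]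
        rfl))
      rw [map_mul, show ((isoEquiv Q₁).symm (refl Q₁ hv) * (isoEquiv Q₁).symm a, (1 : Cfsg.isometryGroup F ⇑Q₂)) =
        ((isoEquiv Q₁).symm (refl Q₁ hv), 1) * ((isoEquiv Q₁).symm a, 1) by rw [Prod.mk_mul_mk, one_mul],
        map_mul, map_mul, map_mul, ha, he, sgn_refl _ h2 hv', sgn_refl _ h2 hv, Qs_left]
  have hr : ∀ x, sgn (Qs Q₁ Q₂) (sumHom Q₁ Q₂ (1, x)) = sgn Q₂ x := by
    intro x
    obtain ⟨y, rfl⟩ := (isoEquiv Q₂).symm.surjective x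
    refine closure_induction_refl Q₂ (hc_odd Q₂ h2 h₂) (fun y =>
      sgn (Qs Q₁ Q₂) (sumHom Q₁ Q₂ (1, (isoEquiv Q₂).symm y)) = sgn Q₂ ((isoEquiv Q₂).symm y)) ?_ ?_ y
    · rw [map_one, Prod.mk_one_one, map_one, map_one, map_one]
    · intro v hv a ha
      have hQv : Qs Q₁ Q₂ (Sum.elim 0 v) = Q₂ v := by
        rw [Qs_apply, Sum.elim_comp_inl, Sum.elim_comp_inr, QuadraticMap.map_zero, zero_add]
      have hv' : Qs Q₁ Q₂ (Sum.elim 0 v) ≠ 0 := by rwa [hQv]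
      have he : sumHom Q₁ Q₂ (1, (isoEquiv Q₂).symm (refl Q₂ hv)) =
          (isoEquiv _).symm (refl (Qs Q₁ Q₂) hv') := Subtype.ext (Units.ext (by
        rw [sumHom_val, CfsgLib.OmegaList.symm_refl_matrix, CfsgLib.OmegaList.symm_refl_matrix, refl_right]
        rfl))
      rw [map_mul, show ((1 : Cfsg.isometryGroup F ⇑Q₁), (isoEquiv Q₂).symm (refl Q₂ hv) * (isoEquiv Q₂).symm a) =
        (1, (isoEquiv Q₂).symm (refl Q₂ hv)) * (1, (isoEquiv Q₂).symm a) by rw [Prod.mk_mul_mk, one_mul],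
        map_mul, map_mul, map_mul, ha, he, sgn_refl _ h2 hv', sgn_refl _ h2 hv, hQv]
  calc sgn (Qs Q₁ Q₂) (sumHom Q₁ Q₂ p) = sgn (Qs Q₁ Q₂) (sumHom Q₁ Q₂ ((p.1, 1) * (1, p.2))) := by
        rw [Prod.mk_mul_mk, mul_one, one_mul]
    _ = _ := by rw [map_mul, map_mul, hl, hr]

theorem geoV_sum (p : Cfsg.isometryGroup F ⇑Q₁ × Cfsg.isometryGroup F ⇑Q₂) (n : ℕ) (v : ι → F) (w : κ → F) :
    geoV (sumHom Q₁ Q₂ p) n (Sum.elim v w) = Sum.elim (geoV p.1 n v) (geoV p.2 n w) := by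
  induction n with
  | zero => funext s; rcases s with s | s <;> simp [geoV]
  | succ n ih =>
    simp only [geoV, Finset.sum_range_succ] at ih ⊢
    rw [ih, ← map_pow, sumHom_val, Matrix.fromBlocks_mulVec, Sum.elim_comp_inl, Sum.elim_comp_inr,
      Matrix.zero_mulVec, Matrix.zero_mulVec, add_zero, zero_add]
    funext s
    rcases s with s | s <;> rfl

theorem Wit.prod (h2 : (2 : F) ≠ 0) (hQ₁ : (polarBilin Q₁).Nondegenerate) (hQ₂ : (polarBilin Q₂).Nondegenerate)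
    {aff : Prop} {N₁ N₂ : ℕ} {s₁ s₂ : ℤˣ} (h₁ : Wit aff Q₁ N₁ s₁) (h₂ : Wit aff Q₂ N₂ s₂) :
    Wit aff (Qs Q₁ Q₂) (Nat.lcm N₁ N₂) (s₁ * s₂) := by
  obtain ⟨g₁, v₁, hd₁, hs₁, hv₁, hN₁⟩ := h₁
  obtain ⟨g₂, v₂, hd₂, hs₂, hv₂, hN₂⟩ := h₂
  refine ⟨sumHom Q₁ Q₂ (g₁, g₂), Sum.elim v₁ v₂, ?_, by rw [sgn_sum Q₁ Q₂ h2 hQ₁ hQ₂, hs₁, hs₂], fun ha => ?_,
    fun n hn hg => ?_⟩
  · rw [sumHom_val, Matrix.det_fromBlocks_zero₂₁, hd₁, hd₂, one_mul]
  · rw [hv₁ ha, hv₂ ha]; funext s; rcases s with s | s <;> rfl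
  · rw [geoV_sum] at hg
    rw [← map_pow] at hn
    have hm := congrArg (fun g : Cfsg.isometryGroup F ⇑(Qs Q₁ Q₂) => g.1.1) hn
    simp only [sumHom_val] at hm
    change Matrix.fromBlocks (g₁ ^ n).1.1 0 0 (g₂ ^ n).1.1 = 1 at hm
    rw [← Matrix.fromBlocks_one, Matrix.fromBlocks_inj] at hm
    exact Nat.lcm_dvd
      (hN₁ n (Subtype.ext (Units.ext hm.1)) (by simpa using congrArg (· ∘ Sum.inl) hg))
      (hN₂ n (Subtype.ext (Units.ext hm.2.2.2)) (by simpa using congrArg (· ∘ Sum.inr) hg))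

theorem Typ.sum (h2 : (2 : F) ≠ 0) {d₁ d₂ : ℕ} {ε₁ ε₂ : ℤˣ} (h₁ : Typ Q₁ d₁ ε₁) (h₂ : Typ Q₂ d₂ ε₂) :
    Typ (Qs Q₁ Q₂) (d₁ + d₂) (ε₁ * ε₂) := by
  refine ⟨by rw [Fintype.card_sum, h₁.card, h₂.card, mul_add], Qs_nondeg _ _ h₁.nondeg h₂.nondeg, ?_⟩
  have hm : (-1 : F) ≠ 0 := neg_ne_zero.mpr one_ne_zero
  rw [← h₁.disc, ← h₂.disc, ← sg_mul h2 (mul_ne_zero (pow_ne_zero _ hm) (polarMat_det_ne_zero h₁.nondeg))
    (mul_ne_zero (pow_ne_zero _ hm) (polarMat_det_ne_zero h₂.nondeg)), det_Qs, pow_add]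
  congr 1
  ring

end Sum

variable (F) in
/-- A witness in some space of the given dimension and type. -/
def Rep (aff : Prop) (d : ℕ) (ε : ℤˣ) (N : ℕ) (s : ℤˣ) : Prop :=
  ∃ (ι : Type) (_ : Fintype ι) (_ : DecidableEq ι) (Q : QuadraticForm F (ι → F)), Typ Q d ε ∧ Wit aff Q N s

theorem Rep.mono {aff : Prop} {d : ℕ} {ε : ℤˣ} {N : ℕ} {s : ℤˣ} (h : Rep F False d ε N s) :
    Rep F aff d ε N s := by
  obtain ⟨ι, i1, i2, Q, ht, hw⟩ := h
  exact ⟨ι, i1, i2, Q, ht, hw.mono⟩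

theorem Rep.sq {d : ℕ} {ε : ℤˣ} {N : ℕ} {s : ℤˣ} (h : Rep F False d ε (2 * N) s) : Rep F False d ε N 1 := by
  obtain ⟨ι, i1, i2, Q, ht, hw⟩ := h
  exact ⟨ι, i1, i2, Q, ht, hw.sq⟩

theorem Rep.prod (h2 : (2 : F) ≠ 0) {aff : Prop} {d₁ d₂ N₁ N₂ : ℕ} {ε₁ ε₂ s₁ s₂ : ℤˣ}
    (h₁ : Rep F aff d₁ ε₁ N₁ s₁) (h₂ : Rep F aff d₂ ε₂ N₂ s₂) :
    Rep F aff (d₁ + d₂) (ε₁ * ε₂) (Nat.lcm N₁ N₂) (s₁ * s₂) := by
  obtain ⟨ι₁, i₁, j₁, Q₁, ht₁, hw₁⟩ := h₁
  obtain ⟨ι₂, i₂, j₂, Q₂, ht₂, hw₂⟩ := h₂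
  exact ⟨ι₁ ⊕ ι₂, inferInstance, inferInstance, Qs Q₁ Q₂, ht₁.sum Q₁ Q₂ h2 ht₂,
    hw₁.prod Q₁ Q₂ h2 ht₁.nondeg ht₂.nondeg hw₂⟩

/-- Forms of equal dimension and discriminant class are equivalent. -/
theorem equiv_of_disc (h2 : (2 : F) ≠ 0) (hc : Fintype.card ι = Fintype.card κ) (Q : QuadraticForm F (ι → F))
    (Q' : QuadraticForm F (κ → F)) (hQ : (polarBilin Q).Nondegenerate) (hQ' : (polarBilin Q').Nondegenerate)
    (hdisc : IsSquare ((polarMat ⇑Q).det * (polarMat ⇑Q').det)) : FormEquiv Q Q' := by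
  let σ : κ ≃ ι := Fintype.equivOfCardEq hc.symm
  set Q'' : QuadraticForm F (κ → F) := Q.comp (LinearMap.funLeft F F σ.symm) with hQ''
  have h1 : FormEquiv Q Q'' := formEquiv_reindex σ fun v => by
    rw [hQ'', QuadraticMap.comp_apply]
    congr 1
    funext x
    simp [LinearMap.funLeft_apply]
  have hmat : polarMat ⇑Q'' = (polarMat ⇑Q).submatrix σ σ := by
    have he : ∀ i, LinearMap.funLeft F F σ.symm (Pi.single i (1 : F)) = Pi.single (σ i) 1 := fun i => by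
      funext x
      simp [LinearMap.funLeft_apply, Pi.single_apply, Equiv.symm_apply_eq]
    ext i j
    simp only [polarMat, Matrix.of_apply, Matrix.submatrix_apply, hQ'', polar, QuadraticMap.comp_apply, map_add, he]
  refine h1.trans ?_
  refine CfsgLib.FiniteForms.isometry_of_congr h2 Q'' Q' ?_
  rw [hmat]
  refine (congr_iff h2 (polarMat_isSymm _) ((polarMat_isSymm _).submatrix σ) (polarMat_det_ne_zero hQ') ?_).mpr ?_
  · rw [Matrix.det_submatrix_equiv_self]; exact polarMat_det_ne_zero hQ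
  · rw [Matrix.det_submatrix_equiv_self, mul_comm]; exact hdisc

/-- An equivalence of forms carries witnesses of spinor sign one into the derived group. -/
theorem Wit.transport {aff : Prop} {N : ℕ} {Q : QuadraticForm F (ι → F)} {Q' : QuadraticForm F (κ → F)}
    (h2 : (2 : F) ≠ 0) (hn : 2 ≤ Fintype.card ι) (hQ : (polarBilin Q).Nondegenerate) (he : FormEquiv Q Q')
    (hw : Wit aff Q N 1) :
    ∃ g : Cfsg.isometryGroup F ⇑Q', g ∈ Cfsg.Omega F ⇑Q' ∧ ∃ v : κ → F, (¬aff → v = 0) ∧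
      ∀ n : ℕ, g ^ n = 1 → geoV g n v = 0 → N ∣ n := by
  obtain ⟨e, he⟩ := he
  obtain ⟨g, v, hd, hs, hv, hN⟩ := hw
  let T : Cfsg.isometryGroup F ⇑Q →* Cfsg.isometryGroup F ⇑Q' :=
    (isoEquiv Q').symm.toMonoidHom.comp ((CfsgLib.SpecSp8.conjIso e he).comp (isoEquiv Q).toMonoidHom)
  have hT : ∀ (x : Cfsg.isometryGroup F ⇑Q) (u : ι → F), (T x).1.1 *ᵥ e u = e (x.1.1 *ᵥ u) := fun x u => by
    show ((isoEquiv Q').symm (CfsgLib.SpecSp8.conjIso e he (isoEquiv Q x))).1.1 *ᵥ e u = _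
    rw [isoEquiv_symm_apply, CfsgLib.SpecSp8.conjIso_apply, isoEquiv_apply]
  have hTi : Function.Injective T :=
    (isoEquiv Q').symm.injective.comp ((CfsgLib.SpecSp8.conjIso_injective e he).comp (isoEquiv Q).injective)
  refine ⟨T g, ?_, e v, fun ha => by rw [hv ha, map_zero], fun n hn hg => hN n ?_ ?_⟩
  · have h1 : g ∈ Cfsg.Omega F ⇑Q := (mem_omega Q h2 hn hQ g).mpr ⟨hd, hs⟩
    have h3 : T g ∈ (Cfsg.Omega F ⇑Q).map T := ⟨g, h1, rfl⟩
    rw [Cfsg.Omega, commutator_def, Subgroup.map_commutator] at h3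
    rw [Cfsg.Omega, commutator_def]
    exact Subgroup.commutator_mono le_top le_top h3
  · exact hTi (by rw [map_pow, hn, map_one])
  · refine e.injective ?_
    rw [map_zero, ← hg, geoV, geoV, map_sum]
    exact Finset.sum_congr rfl fun i _ => by rw [← map_pow, hT]

end CfsgLib.SpecO9
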