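import Cfsg.Agent.Lib.SpecO9.Forms
import Cfsg.Agent.Lib.SpecO9.Bound
import Cfsg.Agent.Lib.OddSpectra.Torus
import Mathlib.FieldTheory.Finite.Extension
import Mathlib.FieldTheory.Finite.Trace

/-!
The pieces: tori of both types with their spinor sign, and regular unipotent elements with their affine refinement.
-/

set_option autoImplicit false
set_option linter.unusedSectionVars false
set_option linter.style.haveILetI false
set_option maxHeartbeats 1000000

namespace CfsgLib.SpecO9

open QuadraticMap Module CfsgLib.FiniteForms CfsgLib.OmegaSum CfsgLib.SemisimplePrimeClasses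
open scoped Matrix

variable {F : Type*} [Field F] [Fintype F]

theorem sg_units (h2 : (2 : F) ≠ 0) {x : F} (hx : x ≠ 0) {s : ℤˣ} :
    ∃ c : F, c ≠ 0 ∧ sg (c * x) = s := by
  obtain ⟨α, hα⟩ := FiniteField.exists_nonsquare (F := F) (fun h => h2 (by
    haveI := ringChar.of_eq h; exact CharTwo.two_eq_zero))
  have hα0 : α ≠ 0 := fun h => hα (h ▸ IsSquare.zero)
  rcases Int.units_eq_one_or s with rfl | rfl
  · exact ⟨x, hx, sg_sq x⟩
  · refine ⟨α * x, mul_ne_zero hα0 hx, ?_⟩
    rw [mul_assoc, mul_comm α, sg_sq_mul h2 hx hα0]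
    exact if_neg hα

section Unip

/-- The shift. -/
def shift (n : ℕ) : Matrix (Fin n) (Fin n) F := Matrix.of fun i j => if (i : ℕ) = j + 1 then 1 else 0

/-- The alternating antidiagonal. -/
def antid (k : ℕ) : Matrix (Fin (2 * k + 1)) (Fin (2 * k + 1)) F :=
  Matrix.of fun i j => if (i : ℕ) + j = 2 * k then (-1) ^ (i : ℕ) else 0

theorem shift_pow (n m : ℕ) (i j : Fin n) :
    ((shift n : Matrix (Fin n) (Fin n) F) ^ m) i j = if (i : ℕ) = j + m then 1 else 0 := by
  induction m generalizing i with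
  | zero => simp [Matrix.one_apply, Fin.ext_iff]
  | succ m ih =>
    rw [pow_succ', Matrix.mul_apply]
    have e : ∀ l : Fin n, (shift n : Matrix (Fin n) (Fin n) F) i l * ((shift n : Matrix (Fin n) (Fin n) F) ^ m) l j =
        if (i : ℕ) = l + 1 ∧ (l : ℕ) = j + m then 1 else 0 := fun l => by
      rw [ih l, show (shift n : Matrix (Fin n) (Fin n) F) i l = if (i : ℕ) = l + 1 then 1 else 0 from rfl]
      by_cases h1 : (i : ℕ) = l + 1 <;> by_cases h3 : (l : ℕ) = j + m <;> simp [h1, h3]
    rw [Finset.sum_congr rfl fun l _ => e l]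
    by_cases h : (i : ℕ) = j + (m + 1)
    · rw [if_pos h, Finset.sum_eq_single (⟨j + m, by omega⟩ : Fin n)]
      · exact if_pos ⟨show (i : ℕ) = j + m + 1 by omega, rfl⟩
      · intro l _ hl
        exact if_neg fun e' => hl (Fin.ext e'.2)
      · simp
    · rw [if_neg h]
      exact Finset.sum_eq_zero fun l _ => if_neg fun e' => h (by omega)

theorem antid_shift (k : ℕ) :
    (shift (2 * k + 1) : Matrix _ _ F).transpose * antid k = -(antid k * shift (2 * k + 1)) := by
  ext i j
  rw [Matrix.neg_apply, Matrix.mul_apply, Matrix.mul_apply]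
  simp only [shift, antid, Matrix.transpose_apply, Matrix.of_apply, ite_mul, one_mul, zero_mul, mul_ite, mul_one,
    mul_zero]
  by_cases h : (i : ℕ) + j + 1 = 2 * k
  · rw [Finset.sum_eq_single (⟨i + 1, by omega⟩ : Fin (2 * k + 1)),
      Finset.sum_eq_single (⟨j + 1, by omega⟩ : Fin (2 * k + 1))]
    · rw [if_pos rfl, if_pos rfl, if_pos (show (i : ℕ) + 1 + j = 2 * k by omega),
        if_pos (show (i : ℕ) + (j + 1) = 2 * k by omega), pow_succ]
      ring
    · intro l _ hl
      rw [if_neg fun e => hl (Fin.ext e)]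
      try simp
    · simp
    · intro l _ hl
      rw [if_neg fun e => hl (Fin.ext e)]
      try simp
    · simp
  · rw [Finset.sum_eq_zero, Finset.sum_eq_zero, neg_zero] <;>
    · intro l _
      split_ifs <;> first | rfl | (exfalso; omega)

theorem antid_mul_self (k : ℕ) : antid k * antid k = (1 : Matrix (Fin (2 * k + 1)) (Fin (2 * k + 1)) F) := by
  ext i j
  rw [Matrix.mul_apply, Finset.sum_eq_single (⟨2 * k - i, by omega⟩ : Fin (2 * k + 1))]
  · simp only [antid, Matrix.of_apply, Matrix.one_apply, Fin.ext_iff]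
    rw [if_pos (show (i : ℕ) + (2 * k - i) = 2 * k by omega)]
    by_cases h : (i : ℕ) = j
    · rw [if_pos h, if_pos (show 2 * k - (i : ℕ) + j = 2 * k by omega), ← pow_add,
        show (i : ℕ) + (2 * k - i) = 2 * k by omega, pow_mul, neg_one_sq, one_pow]
    · rw [if_neg h, if_neg (show ¬ 2 * k - (i : ℕ) + j = 2 * k by omega), mul_zero]
  · intro l _ hl
    simp only [antid, Matrix.of_apply]
    rw [if_neg fun e => hl (Fin.ext (show (l : ℕ) = 2 * k - i by omega)), zero_mul]
  · simp

theorem antid_symm (k : ℕ) : (antid k : Matrix (Fin (2 * k + 1)) (Fin (2 * k + 1)) F).IsSymm := by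
  ext i j
  simp only [antid, Matrix.transpose_apply, Matrix.of_apply]
  by_cases h : (i : ℕ) + j = 2 * k
  · rw [if_pos h, if_pos (show (j : ℕ) + i = 2 * k by omega)]
    have : Even (i : ℕ) ↔ Even (j : ℕ) := by
      have he : Even ((i : ℕ) + j) := by rw [h]; exact even_two_mul k
      exact Nat.even_add.mp he
    rcases Nat.even_or_odd (i : ℕ) with hi | hi
    · rw [hi.neg_one_pow, (this.mp hi).neg_one_pow]
    · rw [hi.neg_one_pow, (Nat.not_even_iff_odd.mp fun hj => Nat.not_even_iff_odd.mpr hi (this.mpr hj)).neg_one_pow]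
  · rw [if_neg h, if_neg (show ¬ (j : ℕ) + i = 2 * k by omega)]

theorem dot_gram {n : ℕ} (U J : Matrix (Fin n) (Fin n) F) (h : U.transpose * J * U = J) (v : Fin n → F) :
    (U *ᵥ v) ⬝ᵥ (J *ᵥ (U *ᵥ v)) = v ⬝ᵥ (J *ᵥ v) := by
  conv_rhs => rw [← h]
  rw [← Matrix.mulVec_mulVec, ← Matrix.mulVec_mulVec, Matrix.dotProduct_mulVec v U.transpose,
    Matrix.vecMul_transpose]

variable (p : ℕ) [Fact p.Prime] [CharP F p]

/-- A regular unipotent isometry in odd dimension. -/
theorem exists_unip (h2 : (2 : F) ≠ 0) (k : ℕ) :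
    ∃ (Q : QuadraticForm F (Fin (2 * k + 1) → F)) (g : Cfsg.isometryGroup F ⇑Q),
      (polarBilin Q).Nondegenerate ∧ g.1.1.det = 1 ∧ sgn Q g = 1 ∧ (∃ e, g ^ (p ^ e) = 1) ∧
        ((g.1.1 - 1) ^ (2 * k)) *ᵥ Pi.single 0 1 ≠ 0 := by
  classical
  set T : Matrix (Fin (2 * k + 1)) (Fin (2 * k + 1)) F := shift (2 * k + 1) with hT
  set J : Matrix (Fin (2 * k + 1)) (Fin (2 * k + 1)) F := antid k with hJ
  let Q : QuadraticForm F (Fin (2 * k + 1) → F) := LinearMap.BilinMap.toQuadraticMap (Matrix.toBilin' J)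
  have hQv : ∀ v, Q v = v ⬝ᵥ (J *ᵥ v) := fun v => Matrix.toBilin'_apply' J v v
  have hpol : polarMat ⇑Q = (2 : F) • J := by
    ext i j
    rw [polarMat, Matrix.of_apply, LinearMap.BilinMap.polar_toQuadraticMap, Matrix.toBilin'_single,
      Matrix.toBilin'_single, hJ, (antid_symm k).apply i j, Matrix.smul_apply, smul_eq_mul, two_mul]
  have hdet : (polarMat ⇑Q).det ≠ 0 := by
    rw [hpol, Matrix.det_smul]
    refine mul_ne_zero (pow_ne_zero _ h2) fun h => ?_
    have := congrArg Matrix.det (antid_mul_self (F := F) k)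
    rw [Matrix.det_mul, ← hJ, h, mul_zero, Matrix.det_one] at this
    exact zero_ne_one this
  have hnd : (polarBilin Q).Nondegenerate := by
    rwa [polarMat_eq, ← Matrix.nondegenerate_iff_det_ne_zero, LinearMap.nondegenerate_toMatrix₂'_iff] at hdet
  have hTn : T ^ (2 * k + 1) = 0 := by
    ext i j
    rw [hT, shift_pow, if_neg (by omega)]
    rfl
  set S : Matrix (Fin (2 * k + 1)) (Fin (2 * k + 1)) F := ∑ i ∈ Finset.range (2 * k + 1), T ^ i with hS
  have hS1 : (1 - T) * S = 1 := by rw [hS, mul_neg_geom_sum, hTn, sub_zero]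
  have hcomm : Commute T S := Commute.sum_right _ _ _ fun i _ => (Commute.refl T).pow_right i
  set U := (1 + T) * S with hU
  have hiso : U.transpose * J * U = J := by
    have h1 : T.transpose * J = -(J * T) := antid_shift k
    have h3 : (1 - T).transpose * J = J * (1 + T) := by
      rw [Matrix.transpose_sub, Matrix.transpose_one, sub_mul, one_mul, h1, sub_neg_eq_add, mul_add, mul_one]
    have h4 : (1 + T).transpose * J = J * (1 - T) := by
      rw [Matrix.transpose_add, Matrix.transpose_one, add_mul, one_mul, h1, ← sub_eq_add_neg, mul_sub, mul_one]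
    have h5 : (1 - T) * ((1 + T) * S) = 1 + T := by
      rw [← mul_assoc, (show Commute (1 - T) (1 + T) from
        ((Commute.one_left _).sub_left ((Commute.one_right T).add_right (Commute.refl T)))).eq,
        mul_assoc, hS1, mul_one]
    rw [hU, Matrix.transpose_mul, mul_assoc S.transpose, h4, mul_assoc, mul_assoc, h5, ← h3, ← mul_assoc,
      ← Matrix.transpose_mul, hS1, Matrix.transpose_one, one_mul]
  have hTk : ∀ (m : ℕ), T ^ (2 * k) * S ^ m = T ^ (2 * k) := by
    intro m
    induction m with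
    | zero => simp
    | succ m ih =>
      rw [pow_succ, ← mul_assoc, ih]
      have hz : T ^ (2 * k) * T = 0 := by rw [← pow_succ, hTn]
      have h6 := congrArg (T ^ (2 * k) * ·) hS1
      simp only [mul_one] at h6
      rw [← mul_assoc, mul_sub, mul_one, hz, sub_zero] at h6
      exact h6
  have hU1 : U - 1 = 2 • (T * S) := by
    rw [hU]
    conv_lhs => arg 2; rw [← hS1]
    rw [← sub_mul, two_nsmul, ← add_mul]
    congr 1
    abel
  have hUpow : (U - 1) ^ (2 * k) = 2 ^ (2 * k) • T ^ (2 * k) := by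
    rw [hU1, smul_pow, hcomm.mul_pow, hTk]
  have hUnil : (U - 1) ^ (2 * k + 1) = 0 := by
    rw [pow_succ, hUpow, smul_mul_assoc, hU1, mul_smul_comm, ← mul_assoc, ← pow_succ, hTn, zero_mul, smul_zero,
      smul_zero]
  have hUp : U ^ (p ^ (2 * k + 1)) = 1 := by
    have hle : 2 * k + 1 ≤ p ^ (2 * k + 1) :=
      (Nat.lt_pow_self (Fact.out : p.Prime).one_lt).le
    have h7 := pow_eq_zero_of_le hle hUnil
    haveI : CharP (Matrix (Fin (2 * k + 1)) (Fin (2 * k + 1)) F) p :=
      charP_of_injective_algebraMap (algebraMap F _).injective p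
    rwa [sub_pow_char_pow_of_commute (p := p) _ (Commute.one_right _), one_pow, sub_eq_zero] at h7
  let g : Cfsg.isometryGroup F ⇑Q :=
    ⟨{ val := U, inv := U ^ (p ^ (2 * k + 1) - 1)
       val_inv := by rw [← pow_succ', Nat.sub_add_cancel (Nat.one_le_pow _ _ (Fact.out : p.Prime).pos), hUp]
       inv_val := by rw [← pow_succ, Nat.sub_add_cancel (Nat.one_le_pow _ _ (Fact.out : p.Prime).pos), hUp] },
     fun v _ => by
      show Q (U *ᵥ v) = Q v
      rw [hQv, hQv]
      exact dot_gram U J hiso v⟩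
  have hgp : g ^ (p ^ (2 * k + 1)) = 1 := Subtype.ext (Units.ext (by
    rw [SubmonoidClass.coe_pow, Units.val_pow_eq_pow_val]
    exact hUp))
  have hp2 : p ≠ 2 := fun h => h2 (by subst h; exact CharTwo.two_eq_zero)
  obtain ⟨j, hj⟩ : Odd (p ^ (2 * k + 1)) := ((Fact.out : p.Prime).odd_of_ne_two hp2).pow
  have hdg : g.1.1.det = 1 := by
    have h8 : g.1.1.det * g.1.1.det = 1 := by
      have := congrArg Matrix.det hiso
      rw [Matrix.det_mul, Matrix.det_mul, Matrix.det_transpose] at this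
      have hJ0 : J.det ≠ 0 := fun h => by
        rw [hpol, Matrix.det_smul, h, mul_zero] at hdet
        exact hdet rfl
      show U.det * U.det = 1
      exact mul_right_cancel₀ hJ0 (by linear_combination this)
    have h9 : g.1.1.det ^ (2 * j + 1) = 1 := by
      rw [← hj, ← Matrix.det_pow]
      show (U ^ (p ^ (2 * k + 1))).det = 1
      rw [hUp, Matrix.det_one]
    rwa [pow_succ, pow_mul, pow_two, h8, one_pow, one_mul] at h9
  have hsg : sgn Q g = 1 := by
    have h9 : sgn Q g ^ (2 * j + 1) = 1 := by rw [← hj, ← map_pow, hgp, map_one]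
    rwa [pow_succ, pow_mul, Int.units_sq, one_pow, one_mul] at h9
  refine ⟨Q, g, hnd, hdg, hsg, ⟨_, hgp⟩, fun h0 => ?_⟩
  change (U - 1) ^ (2 * k) *ᵥ Pi.single 0 1 = 0 at h0
  have h10 := congrFun h0 (Fin.last (2 * k))
  rw [hUpow, Matrix.mulVec_single_one, Matrix.col_apply, Matrix.smul_apply, hT, shift_pow,
    if_pos (by simp), nsmul_eq_mul, mul_one, Pi.zero_apply, Nat.cast_pow, Nat.cast_ofNat] at h10
  exact pow_ne_zero _ h2 h10

theorem unip_exp {ι : Type} [Fintype ι] [DecidableEq ι] {Q : QuadraticForm F (ι → F)}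
    (g : Cfsg.isometryGroup F ⇑Q) {e : ℕ} (hg : g ^ (p ^ e) = 1) {n : ℕ} (hn : g ^ n = 1) (v : ι → F)
    (hgeo : geoV g n v = 0) (hn0 : n ≠ 0) :
    ∃ i, p ^ i ∣ n ∧ (g.1.1 - 1) ^ (p ^ i) = 0 ∧ (g.1.1 - 1) ^ (p ^ i - 1) *ᵥ v = 0 := by
  have hp : p.Prime := Fact.out
  obtain ⟨i, m, hm, rfl⟩ := Nat.exists_eq_pow_mul_and_not_dvd hn0 p hp.ne_one
  have hgi : g ^ (p ^ i) = 1 := by
    have h1 : orderOf (g ^ (p ^ i)) ∣ m := orderOf_dvd_of_pow_eq_one (by rw [← pow_mul, hn])
    have h3 : orderOf (g ^ (p ^ i)) ∣ p ^ e :=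
      orderOf_dvd_of_pow_eq_one (by rw [← pow_mul, mul_comm, pow_mul, hg, one_pow])
    exact orderOf_eq_one_iff.mp
      (Nat.eq_one_of_dvd_coprimes ((hp.coprime_iff_not_dvd.mpr hm).pow_left e) h3 h1)
  haveI : Nontrivial F := inferInstance
  refine ⟨i, dvd_mul_right _ _, ?_, ?_⟩
  · have h4 : g.1.1 ^ (p ^ i) = 1 := by
      rw [← Units.val_pow_eq_pow_val, ← SubmonoidClass.coe_pow, hgi]; rfl
    have := congrArg (Polynomial.aeval g.1.1) (sub_pow_char_pow (p := p) (n := i) (Polynomial.X : Polynomial F) 1)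
    simpa [h4] using this
  · have hgeom : ∀ l, geoV g (p ^ i * l) v = (l : F) • geoV g (p ^ i) v := by
      intro l
      induction l with
      | zero => simp [geoV]
      | succ l ih =>
        rw [mul_add, mul_one, Nat.cast_succ, add_smul, one_smul, ← ih, geoV, Finset.sum_range_add]
        refine congrArg₂ (· + ·) rfl (Finset.sum_congr rfl fun j _ => ?_)
        rw [pow_add, pow_mul, hgi, one_pow, one_mul]
    rw [hgeom, smul_eq_zero] at hgeo
    have h5 : geoV g (p ^ i) v = 0 := hgeo.resolve_left fun h => hm ((CharP.cast_eq_zero_iff F p m).mp h)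
    have hpoly : ∑ j ∈ Finset.range (p ^ i), (Polynomial.X : Polynomial F) ^ j = (Polynomial.X - 1) ^ (p ^ i - 1) := by
      refine mul_right_cancel₀ (b := Polynomial.X - 1) (by simpa using Polynomial.X_sub_C_ne_zero (1 : F)) ?_
      rw [geom_sum_mul, ← pow_succ, Nat.sub_add_cancel (Nat.one_le_pow _ _ hp.pos), sub_pow_char_pow, one_pow]
    have h6 := congrArg (fun f => Polynomial.aeval g.1.1 f *ᵥ v) hpoly
    simp only [map_sum, map_pow, map_sub, Polynomial.aeval_X, map_one, Matrix.sum_mulVec] at h6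
    rw [← h6, ← h5, geoV]
    exact Finset.sum_congr rfl fun j _ => by rw [SubmonoidClass.coe_pow, Units.val_pow_eq_pow_val]

/-- Regular unipotent elements in odd dimension. -/
theorem odd_piece (h2 : (2 : F) ≠ 0) (k : ℕ) :
    ∃ Q : QuadraticForm F (Fin (2 * k + 1) → F), (polarBilin Q).Nondegenerate ∧ Wit False Q (ppart p k) 1 := by
  obtain ⟨Q, g, hnd, hd, hs, ⟨e, he⟩, hne⟩ := exists_unip (F := F) p h2 k
  refine ⟨Q, hnd, Wit.linear g hd hs fun n hn => ?_⟩
  rcases Nat.eq_zero_or_pos n with rfl | hn0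
  · exact dvd_zero _
  obtain ⟨i, hi, hnil, -⟩ := unip_exp p g he hn 0 (by simp [geoV]) hn0.ne'
  refine (pow_dvd_pow p (Nat.clog_le_of_le_pow ?_)).trans hi
  by_contra hlt
  exact hne (by rw [pow_eq_zero_of_le (show p ^ i ≤ 2 * k by omega) hnil, Matrix.zero_mulVec])

/-- The affine refinement, in a space of any type. -/
theorem aff_piece (h2 : (2 : F) ≠ 0) (a : ℕ) (ha : 1 ≤ a) (ε : ℤˣ) : Rep F True a ε (ppart p a) 1 := by
  obtain ⟨k, rfl⟩ : ∃ k, a = k + 1 := ⟨a - 1, by omega⟩
  obtain ⟨Q, g, hnd, hd, hs, ⟨e, he⟩, hne⟩ := exists_unip (F := F) p h2 k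
  have hG := polarMat_det_ne_zero hnd
  obtain ⟨c', hc'0, hc'⟩ := sg_units h2 (x := (-1) ^ (k + 1) * (polarMat ⇑Q).det)
    (mul_ne_zero (pow_ne_zero _ (neg_ne_zero.mpr one_ne_zero)) hG) (s := ε)
  have hUd : (polarMat ⇑(Uc (c' / 2))).det = c' := by
    rw [Matrix.det_eq_elem_of_subsingleton _ (), polarMat, Matrix.of_apply, QuadraticMap.polar_self, Uc_apply]
    simp
    field_simp
  have hUn : (polarBilin (Uc (c' / 2))).Nondegenerate := Uc_nondeg h2 (div_ne_zero hc'0 h2)
  refine ⟨Fin (2 * k + 1) ⊕ Unit, inferInstance, inferInstance, Qs Q (Uc (c' / 2)),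
    ⟨by simp; ring, Qs_nondeg _ _ hnd hUn, ?_⟩, sumHom Q _ (g, 1), Sum.elim (Pi.single 0 1) 0, ?_, ?_,
    fun hn => absurd trivial hn, fun n hn hgeo => ?_⟩
  · rw [det_Qs, hUd, ← hc']
    congr 1
    ring
  · rw [sumHom_val, Matrix.det_fromBlocks_zero₂₁, hd, one_mul]
    exact Matrix.det_one
  · rw [sgn_sum Q _ h2 hnd hUn, hs, map_one, one_mul]
  · rcases Nat.eq_zero_or_pos n with rfl | hn0
    · exact dvd_zero _
    rw [geoV_sum] at hgeo
    have hg0 : geoV g n (Pi.single 0 1) = 0 := by simpa using congrArg (· ∘ Sum.inl) hgeo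
    rw [← map_pow] at hn
    have hm := congrArg (fun x : Cfsg.isometryGroup F ⇑(Qs Q (Uc (c' / 2))) => x.1.1) hn
    simp only [sumHom_val] at hm
    change Matrix.fromBlocks (g ^ n).1.1 0 0 ((1 : Cfsg.isometryGroup F ⇑(Uc (c' / 2))) ^ n).1.1 = 1 at hm
    rw [← Matrix.fromBlocks_one, Matrix.fromBlocks_inj] at hm
    obtain ⟨i, hi, -, hnil⟩ := unip_exp p g he (Subtype.ext (Units.ext hm.1)) _ hg0 hn0.ne'
    refine (pow_dvd_pow p (Nat.clog_le_of_le_pow ?_)).trans hi
    have hp2 : p ≠ 2 := fun h => h2 (by subst h; exact CharTwo.two_eq_zero)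
    obtain ⟨j, hj⟩ : Odd (p ^ i) := ((Fact.out : p.Prime).odd_of_ne_two hp2).pow
    by_contra hlt
    refine hne ?_
    rw [show (g.1.1 - 1) ^ (2 * k) = (g.1.1 - 1) ^ (2 * k - (p ^ i - 1)) * (g.1.1 - 1) ^ (p ^ i - 1) by
      rw [← pow_add, Nat.sub_add_cancel (by omega)], ← Matrix.mulVec_mulVec, hnil, Matrix.mulVec_zero]

end Unip

section Tori

theorem torus_plus (h2 : (2 : F) ≠ 0) (d : ℕ) (hd : 1 ≤ d) :
    Rep F False d 1 (Fintype.card F ^ d - 1) (-1) := by
  classical
  obtain ⟨p, hp⟩ := CharP.exists F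
  haveI : Fact p.Prime := ⟨CharP.char_is_prime F p⟩
  haveI : NeZero d := ⟨by omega⟩
  let K := FiniteField.Extension F p d
  haveI : Fintype K := Fintype.ofFinite K
  have hrank : finrank F K = d := FiniteField.finrank_extension F p d
  have hcard : Nat.card K = Fintype.card F ^ d := by
    rw [FiniteField.natCard_extension, Nat.card_eq_fintype_card]
  obtain ⟨t, ht⟩ := IsCyclic.exists_ofOrder_eq_natCard (α := Kˣ)
  rw [Nat.card_units, hcard] at ht
  let b : Basis (Fin d) F K := finBasisOfFinrankEq F K hrank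
  let A : Kˣ →* GL (Fin d) F := Units.map (Algebra.leftMulMatrix b).toMonoidHom
  have hAinj : Function.Injective A := fun x y h =>
    Units.ext (Algebra.leftMulMatrix_injective b (congrArg Units.val h))
  set Q := CfsgLib.Lagrangian.Qp d F with hQd
  have hnd : (polarBilin Q).Nondegenerate := CfsgLib.Lagrangian.Qp_nondeg
  have hG : polarMat ⇑Q = hypMat F d := by
    ext i j
    rw [polarMat, Matrix.of_apply,
      show (⇑Q : (Fin d ⊕ Fin d → F) → F) = Cfsg.quadFormPlus d F from funext CfsgLib.Lagrangian.Qp_apply,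
      polar_plus]
    simp [Matrix.mulVec_single_one]
  have hinvt : ∀ M : GL (Fin d) F, (M⁻¹).1.transpose.transpose * M.1 = 1 := fun M => by
    rw [Matrix.transpose_transpose, Units.inv_mul]
  let g : GL (Fin d) F →* Cfsg.isometryGroup F ⇑Q :=
    { toFun := fun M =>
        ⟨{ val := Matrix.fromBlocks M.1 0 0 (M⁻¹).1.transpose
           inv := Matrix.fromBlocks (M⁻¹).1 0 0 M.1.transpose
           val_inv := by
            rw [Matrix.fromBlocks_multiply, ← Matrix.transpose_mul]
            simp [← Matrix.fromBlocks_one]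
           inv_val := by
            rw [Matrix.fromBlocks_multiply, ← Matrix.transpose_mul]
            simp [← Matrix.fromBlocks_one] },
          fun u _ => by
            show Q (Matrix.fromBlocks M.1 0 0 (M⁻¹).1.transpose *ᵥ u) = Q u
            rw [Matrix.fromBlocks_mulVec, CfsgLib.Lagrangian.Qp_apply, CfsgLib.Lagrangian.Qp_apply]
            simp only [Cfsg.quadFormPlus, Sum.elim_inl, Sum.elim_inr, Matrix.zero_mulVec, add_zero, zero_add]
            show M.1 *ᵥ (u ∘ Sum.inl) ⬝ᵥ (M⁻¹).1.transpose *ᵥ (u ∘ Sum.inr) = (u ∘ Sum.inl) ⬝ᵥ (u ∘ Sum.inr)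
            rw [Matrix.mulVec_transpose, dotProduct_comm, ← Matrix.dotProduct_mulVec, Matrix.mulVec_mulVec,
              Units.inv_mul, Matrix.one_mulVec, dotProduct_comm]⟩
      map_one' := Subtype.ext (Units.ext (by simp [Matrix.fromBlocks_one]))
      map_mul' := fun M M' => Subtype.ext (Units.ext (by
        show Matrix.fromBlocks (M.1 * M'.1) 0 0 (M * M')⁻¹.1.transpose = Matrix.fromBlocks M.1 0 0 (M⁻¹).1.transpose *
          Matrix.fromBlocks M'.1 0 0 (M'⁻¹).1.transpose
        rw [Matrix.fromBlocks_multiply, mul_inv_rev, Units.val_mul, Matrix.transpose_mul]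
        simp)) }
  have hgval : ∀ M, (g M).1.1 = Matrix.fromBlocks M.1 0 0 (M⁻¹).1.transpose := fun M => rfl
  have hginj : Function.Injective g := fun M M' h => Units.ext (Matrix.fromBlocks_inj.mp
    (congrArg (fun x : Cfsg.isometryGroup F ⇑Q => x.1.1) h)).1
  refine ⟨Fin d ⊕ Fin d, inferInstance, inferInstance, Q,
    ⟨by simp; ring, hnd, by rw [hG, det_hypMat, sg_sq]⟩, Wit.linear (g (A t)) ?_ ?_ fun n hn => ?_⟩
  · rw [hgval, Matrix.det_fromBlocks_zero₂₁, Matrix.det_transpose, ← Matrix.det_mul, Units.mul_inv, Matrix.det_one]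
  · set M := A t with hM
    have hq3 : 2 < Fintype.card F ^ d := by
      have h3 : 3 ≤ Fintype.card F := by
        rcases Nat.lt_or_ge (Fintype.card F) 3 with h | h
        · exfalso
          have h2' : 2 ≤ Fintype.card F := Fintype.one_lt_card
          have he : Fintype.card F = 2 := by omega
          exact h2 (by
            have := FiniteField.cast_card_eq_zero F
            rwa [he] at this)
        · exact h
      exact lt_of_lt_of_le (by omega) (h3.trans (Nat.le_self_pow (by omega) _))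
    have ht1 : (t : K) - 1 ≠ 0 := sub_ne_zero.mpr fun h => by
      rw [Units.val_eq_one] at h
      rw [h, orderOf_one] at ht
      omega
    have hMdet : M.1.det = Algebra.norm F (t : K) := by
      rw [Algebra.norm_eq_matrix_det b]; rfl
    have hM1det : (M.1 - 1).det ≠ 0 := by
      rw [show M.1 - 1 = Algebra.leftMulMatrix b ((t : K) - 1) by rw [map_sub, map_one]; rfl,
        ← Algebra.norm_eq_matrix_det b]
      exact (Algebra.norm_ne_zero_iff).mpr ht1
    have hns : ¬ IsSquare M.1.det := by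
      rintro ⟨s, hs⟩
      have hs0 : s ≠ 0 := fun h => by
        rw [h, mul_zero] at hs
        exact (Matrix.isUnit_iff_isUnit_det M.1).mp M.isUnit |>.ne_zero hs
      obtain ⟨w, hw⟩ := FiniteField.norm_surjective F K s
      have hw0 : w ≠ 0 := fun h => hs0 (by rw [← hw, h, Algebra.norm_zero])
      obtain ⟨j, hj⟩ : ∃ j : ℕ, t ^ j = Units.mk0 w hw0 :=
        (isOfFinOrder_of_finite t).mem_powers_iff_mem_zpowers.mpr (by
          rw [Subgroup.eq_top_of_card_eq (Subgroup.zpowers t)
            (by rw [Nat.card_zpowers, ht, Nat.card_units, hcard])]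
          exact Subgroup.mem_top _)
      have hu : Function.Surjective (Units.map (Algebra.norm F : K →* F)) := fun x => by
        obtain ⟨y, hy⟩ := FiniteField.norm_surjective F K (x : F)
        exact ⟨Units.mk0 y (fun h => x.ne_zero (by rw [← hy, h, Algebra.norm_zero])), Units.ext hy⟩
      set φ := Units.map (Algebra.norm F : K →* F) with hφ
      have hgen : ∀ x : Fˣ, x ∈ Subgroup.zpowers (φ t) := fun x => by
        obtain ⟨y, rfl⟩ := hu x
        obtain ⟨l, rfl⟩ : ∃ l : ℕ, t ^ l = y :=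
          (isOfFinOrder_of_finite t).mem_powers_iff_mem_zpowers.mpr (by
            rw [Subgroup.eq_top_of_card_eq (Subgroup.zpowers t)
              (by rw [Nat.card_zpowers, ht, Nat.card_units, hcard])]
            exact Subgroup.mem_top _)
        rw [map_pow]
        exact Subgroup.pow_mem _ (Subgroup.mem_zpowers _) _
      obtain ⟨α, hα⟩ := FiniteField.exists_nonsquare (F := F) (fun h => h2 (by
        haveI := ringChar.of_eq h; exact CharTwo.two_eq_zero))
      have hα0 : α ≠ 0 := fun h => hα (h ▸ IsSquare.zero)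
      obtain ⟨z, hz⟩ := Subgroup.mem_zpowers_iff.mp (hgen (Units.mk0 α hα0))
      apply hα
      have hval : ((φ t : Fˣ) : F) = s * s := by rw [← hs, hMdet]; rfl
      refine ⟨((Units.mk0 s hs0) ^ z : Fˣ), ?_⟩
      rw [← Units.val_mul, ← mul_zpow]
      have : φ t = Units.mk0 s hs0 * Units.mk0 s hs0 := Units.ext hval
      rw [← this, hz]
      rfl
    have hsub : (g M).1.1 - 1 = Matrix.fromBlocks (M.1 - 1) 0 0 ((M⁻¹).1 - 1).transpose := by
      rw [hgval, ← Matrix.fromBlocks_one, sub_eq_add_neg, Matrix.fromBlocks_neg, Matrix.fromBlocks_add]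
      simp [sub_eq_add_neg]
    have hinv1 : ((M⁻¹).1 - 1).det = (-1) ^ d * (M.1 - 1).det * M.1.det⁻¹ := by
      have h5 : M.1 * ((M⁻¹).1 - 1) = -(M.1 - 1) := by rw [mul_sub, Units.mul_inv, mul_one, neg_sub]
      have h6 := congrArg Matrix.det h5
      rw [Matrix.det_mul, Matrix.det_neg, Fintype.card_fin] at h6
      have h7 : M.1.det ≠ 0 := ((Matrix.isUnit_iff_isUnit_det M.1).mp M.isUnit).ne_zero
      rw [← h6]; field_simp
    have hd7 : M.1.det ≠ 0 := ((Matrix.isUnit_iff_isUnit_det M.1).mp M.isUnit).ne_zero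
    have hd1 : ((g M).1.1 - 1).det ≠ 0 := by
      rw [hsub, Matrix.det_fromBlocks_zero₂₁, Matrix.det_transpose, hinv1]
      exact mul_ne_zero hM1det (mul_ne_zero (mul_ne_zero (pow_ne_zero _ (neg_ne_zero.mpr one_ne_zero)) hM1det)
        (inv_ne_zero hd7))
    rw [sgn_of_det_sub Q h2 hnd (g M) hd1, hG, det_hypMat, hsub, Matrix.det_fromBlocks_zero₂₁, Matrix.det_transpose,
      hinv1, Fintype.card_sum, Fintype.card_fin, ← two_mul, pow_mul, neg_one_sq, one_pow, one_mul]
    rw [pow_mul, neg_one_sq, one_pow, one_mul,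
      show (-1 : F) ^ d * ((M.1 - 1).det * ((-1) ^ d * (M.1 - 1).det * M.1.det⁻¹)) =
        ((-1) ^ d * (M.1 - 1).det * M.1.det⁻¹) * ((-1) ^ d * (M.1 - 1).det * M.1.det⁻¹) * M.1.det by field_simp,
      sg_sq_mul h2 (mul_ne_zero (mul_ne_zero (pow_ne_zero _ (neg_ne_zero.mpr one_ne_zero)) hM1det)
        (inv_ne_zero hd7)) hd7]
    exact if_neg hns
  · rw [← ht, ← orderOf_injective (g.comp A) (fun x y h => hAinj (hginj h)) t]
    exact orderOf_dvd_of_pow_eq_one hn

theorem torus_minus (h2 : (2 : F) ≠ 0) (d : ℕ) (hd : 1 ≤ d) :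
    Rep F False d (-1) (Fintype.card F ^ d + 1) (-1) := by
  classical
  obtain ⟨p, hp⟩ := CharP.exists F
  haveI : Fact p.Prime := ⟨CharP.char_is_prime F p⟩
  haveI : NeZero (2 * d) := ⟨by omega⟩
  let K := FiniteField.Extension F p (2 * d)
  haveI : Fintype K := Fintype.ofFinite K
  haveI : CharP K p := charP_of_injective_algebraMap (algebraMap F K).injective p
  have hp2 : p ≠ 2 := fun h => h2 (by subst h; exact CharTwo.two_eq_zero)
  have hrk : finrank F K = 2 * d := FiniteField.finrank_extension F p (2 * d)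
  set q := Fintype.card F with hq
  have hqodd : Odd q := by
    obtain ⟨a, -, hF⟩ := FiniteField.card F p
    rw [hq, hF]; exact ((Fact.out : p.Prime).odd_of_ne_two hp2).pow
  have hq2 : 2 ≤ q := Fintype.one_lt_card
  obtain ⟨j, hj⟩ : Odd (q ^ d) := hqodd.pow
  have hqd : 3 ≤ q ^ d := by
    have := Nat.one_lt_pow (show d ≠ 0 by omega) hq2
    omega
  have hcard : Nat.card K = q ^ (2 * d) := by rw [FiniteField.natCard_extension, Nat.card_eq_fintype_card]
  have hfac : q ^ (2 * d) - 1 = (q ^ d + 1) * (q ^ d - 1) := by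
    rw [mul_comm 2 d, pow_mul]; simpa using Nat.sq_sub_sq (q ^ d) 1
  let σe : K ≃ₐ[F] K := FiniteField.Extension.frob F p (2 * d) ^ d
  let σ : K →ₐ[F] K := σe.toAlgHom
  have hσ : ∀ x : K, σ x = x ^ q ^ d := fun x => by
    rw [hq, ← Nat.card_eq_fintype_card]
    exact FiniteField.Extension.frob_iterate_apply F p (2 * d) d
  have hσσ : ∀ x : K, σ (σ x) = x := fun x => by
    rw [hσ, hσ, ← pow_mul, ← pow_add, ← two_mul, ← hcard, Nat.card_eq_fintype_card, FiniteField.pow_card]
  obtain ⟨t, ht⟩ := IsCyclic.exists_ofOrder_eq_natCard (α := Kˣ)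
  rw [Nat.card_units, hcard, hfac] at ht
  have hpowers : ∀ y : Kˣ, ∃ l : ℕ, t ^ l = y := fun y =>
    (isOfFinOrder_of_finite t).mem_powers_iff_mem_zpowers.mpr (by
      rw [Subgroup.eq_top_of_card_eq (Subgroup.zpowers t) (by rw [Nat.card_zpowers, ht, Nat.card_units, hcard, hfac])]
      exact Subgroup.mem_top _)
  set w : Kˣ := t ^ (q ^ d - 1) with hwd
  have hw : orderOf w = q ^ d + 1 := by
    rw [hwd, orderOf_pow' t (by omega), ht, Nat.gcd_mul_left_left, Nat.mul_div_cancel _ (by omega)]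
  set e : K := (w : K) with he
  have hprim : IsPrimitiveRoot e (q ^ d + 1) :=
    IsPrimitiveRoot.coe_units_iff.mpr (hw ▸ IsPrimitiveRoot.orderOf w)
  have heσ : e * σ e = 1 := by rw [hσ, ← pow_succ', hprim.pow_eq_one]
  have he1 : e - 1 ≠ 0 := sub_ne_zero.mpr (hprim.ne_one (by omega))
  -- coordinates
  let E : K ≃ₗ[F] (Fin (2 * d) → F) := (finBasisOfFinrankEq F K hrk).equivFun
  let Q0 : QuadraticForm F K := LinearMap.BilinMap.toQuadraticMap
    ((Algebra.traceForm F K).compl₁₂ LinearMap.id σ.toLinearMap)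
  have hQ0 : ∀ x, Q0 x = Algebra.trace F K (x * σ x) := fun x => rfl
  have hp0 : ∀ x y : K, polar Q0 x y = 2 * Algebra.trace F K (x * σ y) := fun x y => by
    rw [LinearMap.BilinMap.polar_toQuadraticMap]
    show Algebra.trace F K (x * σ y) + Algebra.trace F K (y * σ x) = _
    rw [← Algebra.trace_eq_of_algEquiv σe (y * σ x), map_mul σe]
    show _ + Algebra.trace F K (σ y * σ (σ x)) = _
    rw [hσσ, mul_comm (σ y) x]
    exact (two_mul _).symm
  let Q : QuadraticForm F (Fin (2 * d) → F) := Q0.comp E.symm.toLinearMap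
  have hQE : ∀ x, Q (E x) = Q0 x := fun x => by simp [Q, QuadraticMap.comp_apply]
  have hl : ∀ u, (∀ v, polar Q u v = 0) → u = 0 := fun u hu => by
    obtain ⟨x, rfl⟩ := E.surjective u
    have hx : x = 0 := (traceForm_nondegenerate F K).1 x fun y => by
      have := hu (E (σ y))
      rw [show polar Q (E x) (E (σ y)) = polar Q0 x (σ y) by simp only [polar, ← map_add, hQE], hp0, hσσ] at this
      exact (mul_eq_zero.mp this).resolve_left h2
    rw [hx, map_zero]
  have hnd : (polarBilin Q).Nondegenerate :=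
    ⟨fun u h => hl u h, fun v h => hl v fun u => (polar_comm _ v u).trans (h u)⟩
  let mw : K →* Matrix (Fin (2 * d)) (Fin (2 * d)) F :=
    { toFun := fun x => LinearMap.toMatrix' (E.toLinearMap ∘ₗ LinearMap.mulLeft F x ∘ₗ E.symm.toLinearMap)
      map_one' := by
        rw [← LinearMap.toMatrix'_id]
        congr 1
        exact LinearMap.ext fun v => by simp
      map_mul' := fun x y => by
        rw [← LinearMap.toMatrix'_comp]
        congr 1
        exact LinearMap.ext fun v => by simp [mul_assoc] }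
  have hmv : ∀ x y, mw x *ᵥ E y = E (x * y) := fun x y => by
    show LinearMap.toMatrix' _ *ᵥ E y = _
    rw [LinearMap.toMatrix'_mulVec]; simp
  have hdetm : ∀ x, (mw x).det = Algebra.norm F x := fun x => by
    show (LinearMap.toMatrix' _).det = _
    rw [LinearMap.det_toMatrix', LinearMap.det_conj, Algebra.norm_apply]
    rfl
  let G : Cfsg.isometryGroup F ⇑Q :=
    ⟨Units.map mw w, fun v _ => by
      show Q (mw (w : K) *ᵥ v) = Q v
      obtain ⟨x, rfl⟩ := E.surjective v
      rw [hmv, hQE, hQE, hQ0, hQ0, map_mul σ, mul_mul_mul_comm, ← he, heσ, one_mul]⟩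
  have hG : G.1.1 = mw e := rfl
  have hnorm : ∀ x : K, algebraMap F K (Algebra.norm F x) = x ^ ∑ i ∈ Finset.range (2 * d), q ^ i := fun x => by
    rw [FiniteField.algebraMap_norm_eq_pow_sum, hrk, Nat.card_eq_fintype_card]
  have hSplit : ∑ i ∈ Finset.range (2 * d), q ^ i = (q ^ d + 1) * ∑ i ∈ Finset.range d, q ^ i := by
    rw [two_mul, Finset.sum_range_add, add_mul, one_mul, add_comm, Finset.mul_sum]
    exact congrArg (· + _) (Finset.sum_congr rfl fun i _ => pow_add q d i)
  have hdetG : G.1.1.det = 1 := by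
    rw [hG, hdetm]
    refine (algebraMap F K).injective ?_
    rw [hnorm, hSplit, pow_mul, hprim.pow_eq_one, one_pow, map_one]
  let Φ : (PUnit × K) ≃ₗ[F] (Fin (2 * d) → F) :=
    { toFun := fun x => E x.2
      invFun := fun v => (PUnit.unit, E.symm v)
      map_add' := fun x y => map_add E _ _
      map_smul' := fun c x => map_smul E _ _
      left_inv := fun x => by simp
      right_inv := fun v => by simp }
  have hsgn : sgn Q G = -1 := by
    refine (Int.units_eq_one_or _).resolve_left ?_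
    refine CfsgLib.OddSpectra.torus_sign_ne Q h2 hnd Φ ?_ σ hσσ ⟨t, ?_⟩ ?_ ?_
      (CfsgLib.SpinorMatrix.isoEquiv Q G) e ?_ ?_
    · intro k a
      rw [show Φ (k, 0) = 0 from map_zero E, QuadraticMap.map_zero, zero_add]
      try rfl
    · rw [hσ, ← Units.val_pow_eq_pow_val, Ne, Units.val_inj]
      intro h
      have h1 : t ^ (q ^ d - 1) = 1 := by
        refine mul_right_cancel (b := t) ?_
        rw [← pow_succ, Nat.sub_add_cancel (by omega), h, one_mul]
      rw [← hwd] at h1
      rw [h1, orderOf_one] at hw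
      omega
    · intro c hc
      rcases eq_or_ne c 0 with rfl | hc0
      · exact ⟨0, zero_mul _⟩
      obtain ⟨l, hl'⟩ := hpowers (Units.mk0 c hc0)
      have hk' : t ^ (l * (q ^ d - 1)) = 1 := by
        rw [pow_mul, hl']
        refine Units.ext ?_
        rw [Units.val_pow_eq_pow_val, Units.val_mk0, Units.val_one]
        refine mul_left_cancel₀ hc0 ?_
        rw [← pow_succ', mul_one, Nat.sub_add_cancel (by omega), ← hσ, hc]
      obtain ⟨i, rfl⟩ : q ^ d + 1 ∣ l :=
        Nat.dvd_of_mul_dvd_mul_right (show 0 < q ^ d - 1 by omega) (ht ▸ orderOf_dvd_of_pow_eq_one hk')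
      refine ⟨((t ^ i : Kˣ) : K), ?_⟩
      rw [hσ, ← pow_succ', ← Units.val_pow_eq_pow_val, ← pow_mul, mul_comm i, hl', Units.val_mk0]
    · intro c a b
      simp only [CfsgLib.OddSpectra.formR, polar, QuadraticMap.comp_apply, LinearMap.comp_apply, map_add,
        LinearMap.inr_apply, LinearEquiv.coe_coe]
      show Q (E (c * a) + E b) - Q (E (c * a)) - Q (E b) = Q (E a + E (σ c * b)) - Q (E a) - Q (E (σ c * b))
      rw [← map_add, ← map_add, hQE, hQE, hQE, hQE, hQE, hQE]
      show polar Q0 (c * a) b = polar Q0 a (σ c * b)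
      rw [hp0, hp0, map_mul σ, hσσ]
      congr 2
      ring
    · intro k a
      show G.1.1 *ᵥ E a = E (e * a)
      rw [hG, hmv]
    · intro e' he'
      haveI : NeZero (q ^ d + 1) := ⟨by omega⟩
      obtain ⟨i, -, hi⟩ := hprim.eq_pow_of_pow_eq_one (ξ := e') (by rw [pow_succ', ← hσ, he'])
      exact ⟨i, hi⟩
  refine ⟨Fin (2 * d), inferInstance, inferInstance, Q, ⟨by simp, hnd, ?_⟩,
    Wit.linear G hdetG hsgn fun n hn => ?_⟩
  · have hsub : G.1.1 - 1 = mw (e - 1) := by
      refine Matrix.ext_of_mulVec_single fun i => ?_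
      obtain ⟨x, hx⟩ := E.surjective (Pi.single i 1)
      rw [← hx, Matrix.sub_mulVec, Matrix.one_mulVec, hG, hmv, hmv, sub_mul, one_mul, map_sub]
    have hN0 : Algebra.norm F (e - 1) ≠ 0 := Algebra.norm_ne_zero_iff.mpr he1
    have hG0 := polarMat_det_ne_zero hnd
    have hkey := sgn_of_det_sub Q h2 hnd G (by rw [hsub, hdetm]; exact hN0)
    rw [hsgn, hsub, hdetm, Fintype.card_fin, pow_mul, pow_mul, neg_one_sq, neg_one_sq, one_pow, one_pow, one_mul,
      one_mul, sg_mul h2 hG0 hN0] at hkey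
    have hm : ((-1 : F) ^ d) ≠ 0 := pow_ne_zero _ (neg_ne_zero.mpr one_ne_zero)
    suffices hsq : sg ((-1) ^ d * Algebra.norm F (e - 1)) = 1 by
      rw [sg_mul h2 hm hN0] at hsq
      rw [sg_mul h2 hm hG0, eq_inv_of_mul_eq_one_left hsq, Int.units_inv_eq_self, mul_comm, ← hkey]
    rw [sg_eq_one_iff, FiniteField.isSquare_iff (fun h => hp2 ((ringChar.eq F p).symm.trans h))
      (mul_ne_zero hm hN0)]
    refine (algebraMap F K).injective ?_
    rw [map_one, map_pow, map_mul, map_pow, map_neg, map_one, hnorm, mul_pow, ← pow_mul, ← pow_mul, ← hq,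
      show q / 2 = (q - 1) / 2 by obtain ⟨l, hl'⟩ := hqodd; omega]
    have hhalf : (∑ i ∈ Finset.range d, q ^ i) * ((q - 1) / 2) = j := by
      obtain ⟨l, hl'⟩ := hqodd
      have h1 := geom_sum_mul_add (q - 1) d
      rw [show q - 1 + 1 = q by omega, hj] at h1
      rw [show q - 1 = 2 * l by omega] at h1 ⊢
      rw [Nat.mul_div_cancel_left _ two_pos]
      linarith
    have hpar : ((-1 : K)) ^ (d * ((q - 1) / 2)) = (-1) ^ j := by
      rw [← hhalf, pow_mul, pow_mul]
      congr 1
      refine neg_one_pow_congr ?_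
      rw [Finset.even_sum_iff_even_card_odd, Finset.filter_true_of_mem (fun i _ => hqodd.pow), Finset.card_range]
    rw [hpar, hSplit, mul_assoc, hhalf]
    have h6 : (e - 1) ^ ((q ^ d + 1) * j) = (-1) ^ (j + 1) * ((e - 1) ^ 0) * (-1) := by
      rw [show (q ^ d + 1) * j = (q ^ d - 1) * (j + 1) by
        rw [hj, show 2 * j + 1 - 1 = 2 * j by omega]; ring, pow_mul]
      have h7 : (e - 1) ^ (q ^ d - 1) = -1 * e⁻¹ := by
        refine mul_right_cancel₀ he1 ?_
        rw [← pow_succ, Nat.sub_add_cancel (by omega)]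
        have h8 : (e - 1) ^ q ^ d = σ (e - 1) := (hσ _).symm
        rw [h8, map_sub, map_one, eq_inv_of_mul_eq_one_right heσ]
        have he0 : e ≠ 0 := Units.ne_zero w
        linear_combination mul_inv_cancel₀ he0
      have h9 : e ^ (j + 1) = -1 :=
        (hprim.pow (by omega) (show q ^ d + 1 = (j + 1) * 2 by omega)).eq_neg_one_of_two_right
      rw [h7, mul_pow, inv_pow, h9, pow_zero, mul_one, inv_neg, inv_one]
    rw [h6, pow_zero, mul_one, pow_succ, mul_assoc, ← mul_assoc ((-1 : K) ^ j), ← mul_pow]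
    rw [neg_mul_neg, one_mul, one_pow, one_mul]
  · rw [← hw]
    refine orderOf_dvd_of_pow_eq_one (Units.ext ?_)
    have h1 := congrArg (fun x : Cfsg.isometryGroup F ⇑Q => x.1.1 *ᵥ E 1) hn
    simp only [OneMemClass.coe_one, Units.val_one, Matrix.one_mulVec] at h1
    rw [SubmonoidClass.coe_pow, Units.val_pow_eq_pow_val, hG, ← map_pow, hmv, mul_one] at h1
    rw [Units.val_pow_eq_pow_val, Units.val_one]
    exact E.injective h1

end Tori

end CfsgLib.SpecO9
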