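import Mathlib

/-!
Multisets of nine roots closed under `t ↦ t ^ q` and inversion, `q` odd: the exponent of the corresponding element
of `Ω₉(q)`.
-/

set_option autoImplicit false
set_option linter.unusedSectionVars false
set_option maxHeartbeats 1000000

namespace CfsgLib.SpecO9

/-- Pairs `(A, M)`: the maximal orders of `Ω₉(q)` are `p ^ clog p (2 * A) * M`. -/
def targets (q : ℕ) : List (ℕ × ℕ) :=
  [(0, (q ^ 4 + 1) / 2), (0, (q ^ 4 - 1) / 2), (0, (q ^ 3 + 1) * ((q - 1) / 2)),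
    (0, (q ^ 3 - 1) * ((q + 1) / 2)), (1, (q ^ 3 + 1) / 2), (1, (q ^ 3 - 1) / 2),
    (1, (q ^ 2 + 1) * ((q + 1) / 2)), (1, (q ^ 2 + 1) * ((q - 1) / 2)), (1, q ^ 2 - 1),
    (2, (q ^ 2 + 1) / 2), (2, (q ^ 2 - 1) / 2), (3, (q + 1) / 2), (3, (q - 1) / 2), (4, 1)]

variable {Ω : Type*} [Field Ω] {q : ℕ}

/-- The orbit of `t` has at most `2d` members. -/
def P (q d : ℕ) (t : Ω) : Prop := t ^ q ^ d = t ∨ t ^ q ^ d = t⁻¹

/-- The degree of a root. -/
def Deg (q : ℕ) (t : Ω) (d : ℕ) : Prop := 1 ≤ d ∧ P q d t ∧ ∀ k, 1 ≤ k → k < d → ¬ P q k t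

theorem Deg.unique {t : Ω} {d d' : ℕ} (h : Deg q t d) (h' : Deg q t d') : d = d' := by
  rcases lt_trichotomy d d' with hlt | hlt | hlt
  · exact absurd h.2.1 (h'.2.2 d h.1 hlt)
  · exact hlt
  · exact absurd h'.2.1 (h.2.2 d' h'.1 hlt)

theorem root_kill {d : ℕ} {t : Ω} (hq : 0 < q) (ht : t ≠ 0) (h : P q d t) :
    t ^ (q ^ d - 1) = 1 ∨ t ^ (q ^ d + 1) = 1 := by
  rcases h with h | h
  · left
    refine mul_right_cancel₀ ht ?_
    rw [← pow_succ, Nat.sub_add_cancel (Nat.one_le_pow _ _ hq), one_mul, h]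
  · right
    rw [pow_succ, h, inv_mul_cancel₀ ht]

theorem kill_of_dvd {t : Ω} {m n : ℕ} (h : m ∣ n) (ht : t ^ m = 1) : t ^ n = 1 := by
  obtain ⟨k, rfl⟩ := h
  rw [pow_mul, ht, one_pow]

section Arith

theorem div_facts (hq : Odd q) (hq2 : 2 ≤ q) :
    q - 1 ∣ (q ^ 2 - 1) / 2 ∧ q + 1 ∣ (q ^ 2 - 1) / 2 ∧ 2 ∣ (q ^ 2 - 1) / 2 ∧
      q ^ 2 - 1 ∣ (q ^ 4 - 1) / 2 ∧ q ^ 2 + 1 ∣ (q ^ 4 - 1) / 2 ∧ 2 ∣ (q ^ 4 - 1) / 2 ∧
      (q - 1 ∣ (q ^ 2 + 1) * ((q - 1) / 2)) ∧ (q + 1 ∣ (q ^ 2 + 1) * ((q + 1) / 2)) ∧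
      2 ∣ (q ^ 2 + 1) ∧ 2 ∣ q ^ 3 + 1 ∧ 2 ∣ q ^ 3 - 1 := by
  obtain ⟨j, rfl⟩ := hq
  have e1 : (2 * j + 1 - 1) = 2 * j := by omega
  have e2 : (2 * j + 1 + 1) = 2 * (j + 1) := by ring
  have e3 : (2 * j + 1) ^ 2 - 1 = 2 * (2 * j * (j + 1)) :=
    Nat.sub_eq_of_eq_add (by ring)
  have e4 : (2 * j + 1) ^ 2 + 1 = 2 * (2 * j * (j + 1) + 1) := by ring
  have e5 : (2 * j + 1) ^ 4 - 1 = 2 * (2 * j * (j + 1) * ((2 * j + 1) ^ 2 + 1)) :=
    Nat.sub_eq_of_eq_add (by ring)
  have e6 : (2 * j + 1) ^ 3 + 1 = 2 * (4 * j ^ 3 + 6 * j ^ 2 + 3 * j + 1) := by ring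
  have e7 : (2 * j + 1) ^ 3 - 1 = 2 * (4 * j ^ 3 + 6 * j ^ 2 + 3 * j) := Nat.sub_eq_of_eq_add (by ring)
  rw [e1, e2, e3, e5, e6, e7, Nat.mul_div_cancel_left _ two_pos, Nat.mul_div_cancel_left _ two_pos,
    Nat.mul_div_cancel_left _ two_pos, Nat.mul_div_cancel_left _ two_pos, e4]
  exact ⟨⟨j + 1, by ring⟩, ⟨j, by ring⟩, ⟨j * (j + 1), by ring⟩, ⟨2 * j * (j + 1) + 1, by ring⟩,
    ⟨2 * j * (j + 1), by ring⟩, ⟨2 * j * (j + 1) * (2 * j * (j + 1) + 1), by ring⟩,
    ⟨2 * j * (j + 1) + 1, by ring⟩, ⟨2 * j * (j + 1) + 1, by ring⟩, dvd_mul_right _ _, dvd_mul_right _ _,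
    dvd_mul_right _ _⟩

theorem cube_facts (hq : Odd q) (hq2 : 2 ≤ q) :
    (q ^ 3 + 1 ∣ (q ^ 3 + 1) * ((q - 1) / 2) ∧ q + 1 ∣ (q ^ 3 + 1) * ((q - 1) / 2) ∧
      q - 1 ∣ (q ^ 3 + 1) * ((q - 1) / 2) ∧ 2 ∣ (q ^ 3 + 1) * ((q - 1) / 2)) ∧
    (q ^ 3 - 1 ∣ (q ^ 3 - 1) * ((q + 1) / 2) ∧ q + 1 ∣ (q ^ 3 - 1) * ((q + 1) / 2) ∧
      q - 1 ∣ (q ^ 3 - 1) * ((q + 1) / 2) ∧ 2 ∣ (q ^ 3 - 1) * ((q + 1) / 2)) := by
  obtain ⟨-, -, -, -, -, -, -, -, -, ⟨A, hA⟩, ⟨B, hB⟩⟩ := div_facts hq hq2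
  have h1 : q + 1 ∣ q ^ 3 + 1 := by simpa using (show Odd 3 by decide).nat_add_dvd_pow_add_pow q 1
  have h2 : q - 1 ∣ q ^ 3 - 1 := by simpa using Nat.sub_dvd_pow_sub_pow q 1 3
  obtain ⟨j, rfl⟩ := hq
  have e1 : (2 * j + 1 - 1) = 2 * j := by omega
  have e2 : (2 * j + 1 + 1) = 2 * (j + 1) := by ring
  refine ⟨⟨dvd_mul_right _ _, h1.mul_right _, ?_, ?_⟩, ⟨dvd_mul_right _ _, ?_, h2.mul_right _, ?_⟩⟩
  · rw [hA, e1, Nat.mul_div_cancel_left _ two_pos]; exact ⟨A, by ring⟩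
  · exact (Dvd.intro A hA.symm).mul_right _
  · rw [hB, e2, Nat.mul_div_cancel_left _ two_pos]; exact ⟨B, by ring⟩
  · exact (Dvd.intro B hB.symm).mul_right _

end Arith

variable [DecidableEq Ω]

/-- The orbit of `t`. -/
def orb (q d : ℕ) (t : Ω) : Finset Ω :=
  (Finset.range d ×ˢ (Finset.univ : Finset Bool)).image
    fun p => bif p.2 then t ^ q ^ p.1 else (t ^ q ^ p.1)⁻¹

theorem mem_orb {d : ℕ} {t u : Ω} :
    u ∈ orb q d t ↔ ∃ i < d, u = t ^ q ^ i ∨ u = (t ^ q ^ i)⁻¹ := by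
  simp only [orb, Finset.mem_image, Finset.mem_product, Finset.mem_range, Finset.mem_univ, and_true,
    Prod.exists, Bool.exists_bool, cond_false, cond_true]
  constructor
  · rintro ⟨i, ⟨hi, h⟩ | ⟨hi, h⟩⟩
    · exact ⟨i, hi, Or.inr h.symm⟩
    · exact ⟨i, hi, Or.inl h.symm⟩
  · rintro ⟨i, hi, h | h⟩
    · exact ⟨i, Or.inr ⟨hi, h.symm⟩⟩
    · exact ⟨i, Or.inl ⟨hi, h.symm⟩⟩

theorem orb_kill {d m : ℕ} {t u : Ω} (h : t ^ m = 1) (hu : u ∈ orb q d t) : u ^ m = 1 := by
  obtain ⟨i, -, rfl | rfl⟩ := mem_orb.mp hu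
  · rw [← pow_mul, mul_comm, pow_mul, h, one_pow]
  · rw [inv_pow, ← pow_mul, mul_comm, pow_mul, h, one_pow, inv_one]

theorem self_mem_orb {d : ℕ} (hd : 1 ≤ d) (t : Ω) : t ∈ orb q d t :=
  mem_orb.mpr ⟨0, hd, Or.inl (by rw [pow_zero, pow_one])⟩

theorem inv_mem_orb {d : ℕ} {t u : Ω} (h : u ∈ orb q d t) : u⁻¹ ∈ orb q d t := by
  obtain ⟨i, hi, h | h⟩ := mem_orb.mp h
  · exact mem_orb.mpr ⟨i, hi, Or.inr (by rw [h])⟩
  · exact mem_orb.mpr ⟨i, hi, Or.inl (by rw [h, inv_inv])⟩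

theorem step_mem_orb {d : ℕ} {t u : Ω} (hP : P q d t) (h : u ∈ orb q d t) : u ^ q ∈ orb q d t := by
  have h1 : ∀ i < d, t ^ q ^ (i + 1) ∈ orb q d t := by
    intro i hi
    rcases Nat.lt_or_ge (i + 1) d with h' | h'
    · exact mem_orb.mpr ⟨i + 1, h', Or.inl rfl⟩
    · rw [show i + 1 = d by omega]
      rcases hP with h'' | h'' <;> rw [h'']
      · exact self_mem_orb (by omega) t
      · exact inv_mem_orb (self_mem_orb (by omega) t)
  obtain ⟨i, hi, rfl | rfl⟩ := mem_orb.mp h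
  · rw [← pow_mul, ← pow_succ]; exact h1 i hi
  · rw [inv_pow, ← pow_mul, ← pow_succ]; exact inv_mem_orb (h1 i hi)

theorem orb_subset {d d' : ℕ} {t s : Ω} (hP : P q d t) (hs : s ∈ orb q d t) :
    orb q d' s ⊆ orb q d t := by
  have h : ∀ i, s ^ q ^ i ∈ orb q d t := by
    intro i
    induction i with
    | zero => rwa [pow_zero, pow_one]
    | succ i ih => rw [pow_succ, pow_mul]; exact step_mem_orb hP ih
  intro u hu
  obtain ⟨i, -, rfl | rfl⟩ := mem_orb.mp hu
  · exact h i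
  · exact inv_mem_orb (h i)

theorem mass (R : Multiset Ω) (U : Finset Ω) : ∑ u ∈ U, R.count u ≤ Multiset.card R := by
  calc ∑ u ∈ U, R.count u ≤ ∑ u ∈ U ∪ R.toFinset, R.count u :=
        Finset.sum_le_sum_of_subset Finset.subset_union_left
    _ = Multiset.card R := Multiset.sum_count_eq_card fun a ha =>
        Finset.mem_union_right _ (Multiset.mem_toFinset.mpr ha)

theorem all_mem (R : Multiset Ω) (U : Finset Ω) (h : Multiset.card R ≤ ∑ u ∈ U, R.count u) {s : Ω}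
    (hs : s ∈ R) : s ∈ U := by
  by_contra hn
  have h1 := mass R (insert s U)
  rw [Finset.sum_insert hn] at h1
  have := Multiset.one_le_count_iff_mem.mpr hs
  omega

/-- The data of the roots of an element of `SO₉(q)`. -/
structure RootData (q : ℕ) (R : Multiset Ω) : Prop where
  odd : Odd q
  two_le : 2 ≤ q
  two : (2 : Ω) ≠ 0
  card : Multiset.card R = 9
  ne_zero : (0 : Ω) ∉ R
  frob : ∀ t, R.count (t ^ q) = R.count t
  inv : ∀ t : Ω, R.count t⁻¹ = R.count t
  inj : Function.Injective fun t : Ω => t ^ q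
  even : Even (R.count (-1))

variable {R : Multiset Ω}

theorem inv_eq_self_iff {t : Ω} (ht : t ≠ 0) : t⁻¹ = t ↔ t = 1 ∨ t = -1 := by
  rw [← mul_self_eq_one_iff]
  constructor
  · intro h
    nth_rewrite 1 [← h]
    exact inv_mul_cancel₀ ht
  · intro h; exact inv_eq_of_mul_eq_one_right h

/-- A root other than `±1`. -/
def NS (R : Multiset Ω) (t : Ω) : Prop := t ∈ R ∧ t ≠ 1 ∧ t ≠ -1

namespace RootData

variable (D : RootData q R)
include D

theorem one_ne_neg : (1 : Ω) ≠ -1 := fun h => D.two (by linear_combination h)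

theorem ne_zero' {t : Ω} (ht : t ∈ R) : t ≠ 0 := fun e => D.ne_zero (e ▸ ht)

theorem count_iter (i : ℕ) (t : Ω) : R.count (t ^ q ^ i) = R.count t := by
  induction i with
  | zero => rw [pow_zero, pow_one]
  | succ i ih => rw [pow_succ, pow_mul, D.frob, ih]

theorem iter_inj (i : ℕ) : Function.Injective fun t : Ω => t ^ q ^ i := by
  induction i with
  | zero => intro a b h; simpa using h
  | succ i ih =>
    intro a b h
    simp only [pow_succ, pow_mul] at h
    exact ih (D.inj h)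

theorem one_iff (i : ℕ) {t : Ω} : t ^ q ^ i = 1 ↔ t = 1 :=
  ⟨fun h => D.iter_inj i (h.trans (one_pow _).symm), fun h => by rw [h, one_pow]⟩

theorem neg_iff (i : ℕ) {t : Ω} : t ^ q ^ i = -1 ↔ t = -1 :=
  ⟨fun h => D.iter_inj i (h.trans (D.odd.pow).neg_one_pow.symm), fun h => by rw [h, D.odd.pow.neg_one_pow]⟩

theorem count_orb {d : ℕ} {t u : Ω} (hu : u ∈ orb q d t) : R.count u = R.count t := by
  obtain ⟨i, -, rfl | rfl⟩ := mem_orb.mp hu
  · exact D.count_iter i t
  · rw [D.inv, D.count_iter]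

theorem special_notMem {d : ℕ} {t : Ω} (h1 : t ≠ 1) (h2 : t ≠ -1) :
    (1 : Ω) ∉ orb q d t ∧ (-1 : Ω) ∉ orb q d t := by
  constructor <;> intro h <;> obtain ⟨i, -, h | h⟩ := mem_orb.mp h
  · exact h1 ((D.one_iff i).mp h.symm)
  · exact h1 ((D.one_iff i).mp (inv_eq_one.mp h.symm))
  · exact h2 ((D.neg_iff i).mp h.symm)
  · exact h2 ((D.neg_iff i).mp (by rw [← inv_inv (t ^ q ^ i), ← h, inv_neg, inv_one]))

theorem card_orb {d : ℕ} {t : Ω} (ht : NS R t) (hP : ∀ k, 1 ≤ k → k < d → ¬ P q k t) :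
    (orb q d t).card = 2 * d ∧ Set.InjOn (fun p : ℕ × Bool => bif p.2 then t ^ q ^ p.1 else (t ^ q ^ p.1)⁻¹)
      ↑(Finset.range d ×ˢ (Finset.univ : Finset Bool)) := by
  have key : ∀ i j, i < j → j < d → t ^ q ^ i ≠ t ^ q ^ j ∧ t ^ q ^ i ≠ (t ^ q ^ j)⁻¹ := by
    intro i j hij hj
    have e : t ^ q ^ j = (t ^ q ^ (j - i)) ^ q ^ i := by
      rw [← pow_mul, ← pow_add]; congr 2; omega
    constructor <;> intro h <;> rw [e] at h
    · exact hP (j - i) (by omega) (by omega) (Or.inl (D.iter_inj i h).symm)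
    · rw [← inv_pow] at h
      exact hP (j - i) (by omega) (by omega) (Or.inr (inv_eq_iff_eq_inv.mp (D.iter_inj i h).symm))
  have hne : ∀ i, t ^ q ^ i ≠ (t ^ q ^ i)⁻¹ := fun i h => by
    rcases (inv_eq_self_iff (pow_ne_zero _ (D.ne_zero' ht.1))).mp h.symm with e | e
    · exact ht.2.1 ((D.one_iff i).mp e)
    · exact ht.2.2 ((D.neg_iff i).mp e)
  have hinj : Set.InjOn (fun p : ℕ × Bool => bif p.2 then t ^ q ^ p.1 else (t ^ q ^ p.1)⁻¹)
      ↑(Finset.range d ×ˢ (Finset.univ : Finset Bool)) := by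
    rintro ⟨i, a⟩ hi ⟨j, b⟩ hj h
    simp only [Finset.coe_product, Set.mem_prod, Finset.coe_range, Set.mem_Iio] at hi hj
    rcases lt_trichotomy i j with hij | hij | hij
    · have := key i j hij hj.1
      cases a <;> cases b <;> simp only [cond_false, cond_true] at h
      · exact absurd (inv_injective h) this.1
      · exact absurd (by rw [← h, inv_inv]) this.2
      · exact absurd h this.2
      · exact absurd h this.1
    · subst hij
      cases a <;> cases b <;> simp only [cond_false, cond_true] at h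
      · rfl
      · exact absurd h.symm (hne i)
      · exact absurd h (hne i)
      · rfl
    · have := key j i hij hi.1
      cases a <;> cases b <;> simp only [cond_false, cond_true] at h
      · exact absurd (inv_injective h).symm this.1
      · exact absurd h.symm this.2
      · exact absurd (by rw [h, inv_inv]) this.2
      · exact absurd h.symm this.1
  refine ⟨?_, hinj⟩
  rw [orb, Finset.card_image_of_injOn hinj, Finset.card_product, Finset.card_range, Finset.card_univ,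
    Fintype.card_bool, mul_comm]

theorem sum_orb {d : ℕ} {t : Ω} (ht : NS R t) (hP : ∀ k, 1 ≤ k → k < d → ¬ P q k t) :
    ∑ u ∈ orb q d t, R.count u = 2 * d * R.count t := by
  rw [Finset.sum_congr rfl fun u hu => D.count_orb hu, Finset.sum_const, smul_eq_mul, (D.card_orb ht hP).1]

theorem deg_of_mem {d : ℕ} {t u : Ω} (hd : Deg q t d) (hu : u ∈ orb q d t) : Deg q u d := by
  have h1 : ∀ (k i : ℕ) (x : Ω), P q k (x ^ q ^ i) ↔ P q k x := fun k i x => by
    simp only [P]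
    rw [← inv_pow, ← pow_mul, show q ^ i * q ^ k = q ^ k * q ^ i from mul_comm _ _, pow_mul]
    exact or_congr (D.iter_inj i).eq_iff (D.iter_inj i).eq_iff
  have h : ∀ k, P q k u ↔ P q k t := fun k => by
    obtain ⟨i, -, rfl | rfl⟩ := mem_orb.mp hu
    · exact h1 k i t
    · refine Iff.trans ?_ (h1 k i t)
      simp only [P, inv_pow, inv_inj]
  exact ⟨hd.1, (h d).mpr hd.2.1, fun k h' h'' hk => hd.2.2 k h' h'' ((h k).mp hk)⟩

theorem orb_disjoint {d e : ℕ} {t s : Ω} (ht : NS R t) (hd : Deg q t d) (hs : NS R s) (he : Deg q s e)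
    (hst : s ∉ orb q d t) : Disjoint (orb q d t) (orb q e s) := by
  rw [Finset.disjoint_left]
  intro u hu hu'
  have hde := (D.deg_of_mem hd hu).unique (D.deg_of_mem he hu')
  subst hde
  have hsub := orb_subset (d' := d) hd.2.1 hu
  have hun : NS R u := by
    refine ⟨Multiset.one_le_count_iff_mem.mp (by
      rw [D.count_orb hu]; exact Multiset.one_le_count_iff_mem.mpr ht.1), ?_, ?_⟩ <;> rintro rfl
    · exact (D.special_notMem ht.2.1 ht.2.2).1 hu
    · exact (D.special_notMem ht.2.1 ht.2.2).2 hu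
  have heq : orb q d u = orb q d s := Finset.eq_of_subset_of_card_le (orb_subset he.2.1 hu') (by
    rw [(D.card_orb hs he.2.2).1, (D.card_orb hun (D.deg_of_mem hd hu).2.2).1])
  exact hst (hsub (heq ▸ self_mem_orb hd.1 s))

/-- The mass of an orbit and the special roots. -/
theorem mass_one {d : ℕ} {t : Ω} (ht : NS R t) (hd : Deg q t d) :
    2 * d * R.count t + R.count 1 + R.count (-1) ≤ 9 ∧
      (2 * d * R.count t + R.count 1 + R.count (-1) = 9 → ∀ u ∈ R, u = 1 ∨ u = -1 ∨ u ∈ orb q d t) := by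
  obtain ⟨hn1, hn2⟩ := D.special_notMem (d := d) ht.2.1 ht.2.2
  have hsum : ∑ u ∈ insert 1 (insert (-1) (orb q d t)), R.count u =
      2 * d * R.count t + R.count 1 + R.count (-1) := by
    rw [Finset.sum_insert (by simp [hn1, D.one_ne_neg]), Finset.sum_insert hn2, D.sum_orb ht hd.2.2]
    ring
  refine ⟨hsum ▸ D.card ▸ mass R _, fun h u hu => ?_⟩
  simpa only [Finset.mem_insert] using all_mem R (insert 1 (insert (-1) (orb q d t))) (by rw [hsum, h, D.card]) hu

/-- The mass of two orbits and the special roots. -/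
theorem mass_two {d e : ℕ} {t s : Ω} (ht : NS R t) (hd : Deg q t d) (hs : NS R s) (he : Deg q s e)
    (hst : s ∉ orb q d t) :
    2 * d * R.count t + 2 * e * R.count s + R.count 1 + R.count (-1) ≤ 9 ∧
      (2 * d * R.count t + 2 * e * R.count s + R.count 1 + R.count (-1) = 9 →
        ∀ u ∈ R, u = 1 ∨ u = -1 ∨ u ∈ orb q d t ∨ u ∈ orb q e s) := by
  obtain ⟨a1, a2⟩ := D.special_notMem (d := d) ht.2.1 ht.2.2
  obtain ⟨b1, b2⟩ := D.special_notMem (d := e) hs.2.1 hs.2.2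
  have hsum : ∑ u ∈ insert 1 (insert (-1) (orb q d t ∪ orb q e s)), R.count u =
      2 * d * R.count t + 2 * e * R.count s + R.count 1 + R.count (-1) := by
    rw [Finset.sum_insert (by simp [a1, b1, D.one_ne_neg]), Finset.sum_insert (by simp [a2, b2]),
      Finset.sum_union (D.orb_disjoint ht hd hs he hst), D.sum_orb ht hd.2.2, D.sum_orb hs he.2.2]
    ring
  refine ⟨hsum ▸ D.card ▸ mass R _, fun h u hu => ?_⟩
  simpa only [Finset.mem_insert, Finset.mem_union] using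
    all_mem R (insert 1 (insert (-1) (orb q d t ∪ orb q e s))) (by rw [hsum, h, D.card]) hu

theorem exists_deg {t : Ω} (ht : NS R t) : ∃ d, Deg q t d ∧ d ≤ 4 := by
  classical
  have hex : ∃ d, 1 ≤ d ∧ d ≤ 4 ∧ P q d t := by
    by_contra hn
    push Not at hn
    have h := mass R (orb q 5 t)
    rw [D.sum_orb ht fun k h1 h2 => hn k h1 (by omega), D.card] at h
    have := Multiset.one_le_count_iff_mem.mpr ht.1
    omega
  obtain ⟨h1, h4, hP⟩ := Nat.find_spec hex
  exact ⟨Nat.find hex, ⟨h1, hP, fun k hk hlt hPk => Nat.find_min hex hlt ⟨hk, by omega, hPk⟩⟩, h4⟩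

theorem odd_one : Odd (R.count 1) := by
  classical
  have h0 : ∑ t ∈ (R.toFinset.erase 1).erase (-1), ((R.count t : ℕ) : ZMod 2) = 0 := by
    refine Finset.sum_involution (fun t _ => t⁻¹) (fun t _ => ?_) (fun t ht _ => ?_) (fun t ht => ?_)
      (fun t _ => inv_inv t)
    · rw [D.inv]; exact CharTwo.add_self_eq_zero _
    · simp only [Finset.mem_erase, Multiset.mem_toFinset] at ht
      exact fun h => ((inv_eq_self_iff (D.ne_zero' ht.2.2)).mp h).elim ht.2.1 ht.1
    · simp only [Finset.mem_erase, Multiset.mem_toFinset] at ht ⊢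
      refine ⟨fun h => ht.1 (by rw [← inv_inv t, h, inv_neg, inv_one]), fun h => ht.2.1 (inv_eq_one.mp h), ?_⟩
      exact Multiset.one_le_count_iff_mem.mp (by rw [D.inv]; exact Multiset.one_le_count_iff_mem.mpr ht.2.2)
  have h9 : ∑ u ∈ insert 1 (insert (-1) ((R.toFinset.erase 1).erase (-1))), R.count u = 9 := by
    refine (Multiset.sum_count_eq_card fun a ha => ?_).trans D.card
    simp only [Finset.mem_insert, Finset.mem_erase, Multiset.mem_toFinset, ha, and_true]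
    tauto
  rw [Finset.sum_insert (by simp [D.one_ne_neg]), Finset.sum_insert (Finset.notMem_erase _ _)] at h9
  have hev : Even (∑ u ∈ (R.toFinset.erase 1).erase (-1), R.count u) := by
    rw [even_iff_two_dvd, ← ZMod.natCast_eq_zero_iff, Nat.cast_sum]
    exact h0
  obtain ⟨a, ha⟩ := D.even
  obtain ⟨b, hb⟩ := hev
  exact ⟨4 - a - b, by omega⟩

/-- Every root multiset fits one of the targets. -/
theorem target_of_roots
    (hhalf : ∀ t d, NS R t → Deg q t d → R.count t = 1 → (∀ u ∈ R, u = 1 ∨ u ∈ orb q d t) →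
      t ^ ((q ^ d - 1) / 2) = 1 ∨ t ^ ((q ^ d + 1) / 2) = 1) :
    ∃ AM ∈ targets q, ∀ t ∈ R, t ^ AM.2 = 1 ∧ R.count t ≤ 2 * AM.1 + 1 + if t = -1 then 1 else 0 := by
  classical
  obtain ⟨hm1, hp1, h2e, h41, h42, h4e, hA1, hA2, h21e, -, -⟩ := div_facts D.odd D.two_le
  obtain ⟨⟨hcp, hcp1, hcp2, hcpe⟩, ⟨hcm, hcm1, hcm2, hcme⟩⟩ := cube_facts D.odd D.two_le
  have hodd := D.odd_one
  have hone : 1 ≤ R.count 1 := hodd.pos
  have hq0 : 0 < q := by have := D.two_le; omega
  have hkill : ∀ {t : Ω} {d : ℕ}, NS R t → Deg q t d → t ^ (q ^ d - 1) = 1 ∨ t ^ (q ^ d + 1) = 1 :=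
    fun ht hd => root_kill hq0 (D.ne_zero' ht.1) hd.2.1
  have hk1 : ∀ {t : Ω}, NS R t → Deg q t 1 → t ^ (q - 1) = 1 ∨ t ^ (q + 1) = 1 := fun ht hd => by
    simpa using hkill ht hd
  have hneg : ∀ {M : ℕ}, 2 ∣ M → ((-1 : Ω)) ^ M = 1 := fun h => (even_iff_two_dvd.mpr h).neg_one_pow
  have hcases : ∀ u ∈ R, u = 1 ∨ u = -1 ∨ NS R u := fun u hu => by
    rcases eq_or_ne u 1 with h | h
    · exact Or.inl h
    · rcases eq_or_ne u (-1) with h' | h'
      · exact Or.inr (Or.inl h')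
      · exact Or.inr (Or.inr ⟨hu, h, h'⟩)
  by_cases h3 : ∃ t d, NS R t ∧ Deg q t d ∧ 3 ≤ d
  · obtain ⟨t, d, ht, hd, hd3⟩ := h3
    have hct := Multiset.one_le_count_iff_mem.mpr ht.1
    obtain ⟨hmass, hfull⟩ := D.mass_one ht hd
    have hd4 : d ≤ 4 := by
      obtain ⟨d', hd', h4⟩ := D.exists_deg ht
      rwa [hd.unique hd']
    have hc1 : R.count t = 1 := by
      have : 3 * R.count t ≤ d * R.count t := Nat.mul_le_mul_right _ hd3
      rw [mul_assoc] at hmass
      omega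
    rw [hc1, mul_one] at hmass hfull
    by_cases hall : ∀ u ∈ R, u = 1 ∨ u ∈ orb q d t
    · have key : ∀ A M, t ^ M = 1 → R.count 1 ≤ 2 * A + 1 → ∀ u ∈ R,
          u ^ M = 1 ∧ R.count u ≤ 2 * A + 1 + if u = -1 then 1 else 0 := by
        intro A M hM hA u hu
        rcases hall u hu with rfl | h
        · exact ⟨one_pow _, le_add_right hA⟩
        · exact ⟨orb_kill hM h, by rw [D.count_orb h, hc1]; omega⟩
      have hh := hhalf t d ht hd hc1 hall
      obtain ⟨k, hk⟩ := hodd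
      have hd34 : d = 3 ∨ d = 4 := by omega
      rcases hd34 with rfl | rfl
      · rcases hh with h | h
        · exact ⟨(1, (q ^ 3 - 1) / 2), by simp [targets], key 1 _ h (by omega)⟩
        · exact ⟨(1, (q ^ 3 + 1) / 2), by simp [targets], key 1 _ h (by omega)⟩
      · rcases hh with h | h
        · exact ⟨(0, (q ^ 4 - 1) / 2), by simp [targets], key 0 _ h (by omega)⟩
        · exact ⟨(0, (q ^ 4 + 1) / 2), by simp [targets], key 0 _ h (by omega)⟩
    · push Not at hall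
      obtain ⟨v, hv, hv1, hvt⟩ := hall
      have hcv := Multiset.one_le_count_iff_mem.mpr hv
      have hd' : d = 3 ∧ R.count 1 = 1 ∧ R.count (-1) ≤ 2 := by
        rcases hcases v hv with h | h | h
        · exact absurd h hv1
        · subst h
          obtain ⟨k, hk⟩ := hodd
          obtain ⟨j, hj⟩ := D.even
          omega
        · obtain ⟨e, he, -⟩ := D.exists_deg h
          have h2 := (D.mass_two ht hd h he hvt).1
          have : 1 ≤ e * R.count v := Nat.mul_pos he.1 hcv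
          rw [hc1, mul_one, mul_assoc 2 e] at h2
          obtain ⟨k, hk⟩ := hodd
          omega
      obtain ⟨rfl, hc0, hcm'⟩ := hd'
      have key : ∀ M, t ^ M = 1 → q - 1 ∣ M → q + 1 ∣ M → 2 ∣ M → ∀ u ∈ R,
          u ^ M = 1 ∧ R.count u ≤ 2 * 0 + 1 + if u = -1 then 1 else 0 := by
        intro M hM h1 h2 h3 u hu
        rcases hcases u hu with rfl | rfl | hu'
        · exact ⟨one_pow _, by rw [hc0]; omega⟩
        · exact ⟨hneg h3, by rw [if_pos rfl]; omega⟩
        · by_cases hut : u ∈ orb q 3 t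
          · exact ⟨orb_kill hM hut, by rw [D.count_orb hut, hc1]; omega⟩
          · obtain ⟨e, he, -⟩ := D.exists_deg hu'
            have h4 := (D.mass_two ht hd hu' he hut).1
            rw [hc1, hc0, mul_assoc 2 e] at h4
            have hcu := Multiset.one_le_count_iff_mem.mpr hu
            have : e * R.count u = 1 := by
              have : 1 ≤ e * R.count u := Nat.mul_pos he.1 hcu
              omega
            obtain ⟨rfl, hcu1⟩ := mul_eq_one.mp this
            exact ⟨(hk1 hu' he).elim (kill_of_dvd h1) (kill_of_dvd h2), by rw [hcu1]; omega⟩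
      rcases hkill ht hd with h | h
      · exact ⟨(0, (q ^ 3 - 1) * ((q + 1) / 2)), by simp [targets], key _ (kill_of_dvd hcm h) hcm2 hcm1 hcme⟩
      · exact ⟨(0, (q ^ 3 + 1) * ((q - 1) / 2)), by simp [targets], key _ (kill_of_dvd hcp h) hcp2 hcp1 hcpe⟩
  push Not at h3
  have hle2 : ∀ {t : Ω} {d : ℕ}, NS R t → Deg q t d → d = 1 ∨ d = 2 := fun {t d} ht hd => by
    have := h3 t d ht hd
    have := hd.1
    omega
  by_cases h2 : ∃ t, NS R t ∧ Deg q t 2
  · obtain ⟨t, ht, hd⟩ := h2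
    have hct := Multiset.one_le_count_iff_mem.mpr ht.1
    obtain ⟨hmass, -⟩ := D.mass_one ht hd
    by_cases hall : ∀ u ∈ R, u = 1 ∨ u ∈ orb q 2 t
    · have key : ∀ A M, t ^ M = 1 → R.count 1 ≤ 2 * A + 1 → R.count t ≤ 2 * A + 1 → ∀ u ∈ R,
          u ^ M = 1 ∧ R.count u ≤ 2 * A + 1 + if u = -1 then 1 else 0 := by
        intro A M hM hA hA' u hu
        rcases hall u hu with rfl | h
        · exact ⟨one_pow _, le_add_right hA⟩
        · exact ⟨orb_kill hM h, by rw [D.count_orb h]; omega⟩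
      by_cases hc1 : R.count t = 1
      · rcases hhalf t 2 ht hd hc1 hall with h | h
        · exact ⟨(2, (q ^ 2 - 1) / 2), by simp [targets], key 2 _ h (by omega) (by omega)⟩
        · exact ⟨(2, (q ^ 2 + 1) / 2), by simp [targets], key 2 _ h (by omega) (by omega)⟩
      · rcases hkill ht hd with h | h
        · exact ⟨(1, q ^ 2 - 1), by simp [targets], key 1 _ h (by omega) (by omega)⟩
        · exact ⟨(1, (q ^ 2 + 1) * ((q - 1) / 2)), by simp [targets],
            key 1 _ (kill_of_dvd (dvd_mul_right _ _) h) (by omega) (by omega)⟩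
    push Not at hall
    obtain ⟨v, hv, hv1, hvt⟩ := hall
    have hcv := Multiset.one_le_count_iff_mem.mpr hv
    have hcl : R.count t = 1 ∧ R.count 1 ≤ 3 := by
      rcases hcases v hv with h | h | h
      · exact absurd h hv1
      · subst h
        obtain ⟨k, hk⟩ := hodd
        obtain ⟨j, hj⟩ := D.even
        omega
      · obtain ⟨e, he, -⟩ := D.exists_deg h
        have h4 := (D.mass_two ht hd h he hvt).1
        rw [mul_assoc 2 e] at h4
        have : 1 ≤ e * R.count v := Nat.mul_pos he.1 hcv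
        omega
    obtain ⟨hc1, hcle⟩ := hcl
    rw [hc1] at hmass
    by_cases hsimple : ∀ u ∈ R, R.count u ≤ 1 + if u = -1 then 1 else 0
    · refine ⟨(0, (q ^ 4 - 1) / 2), by simp [targets], fun u hu => ⟨?_, by simpa using hsimple u hu⟩⟩
      rcases hcases u hu with rfl | rfl | hu'
      · exact one_pow _
      · exact hneg h4e
      · obtain ⟨e, he, -⟩ := D.exists_deg hu'
        rcases hle2 hu' he with rfl | rfl
        · refine (hk1 hu' he).elim (fun h => kill_of_dvd ?_ h) (fun h => kill_of_dvd ?_ h)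
          · exact (Nat.sub_dvd_pow_sub_pow q 1 2).trans (by simpa using h41)
          · exact (show q + 1 ∣ q ^ 2 - 1 from Dvd.intro _ (by simpa using (Nat.sq_sub_sq q 1).symm)).trans h41
        · exact (hkill hu' he).elim (kill_of_dvd h41) (kill_of_dvd h42)
    push Not at hsimple
    obtain ⟨w, hw, hw2⟩ := hsimple
    have hdeg1 : ∀ u, NS R u → u ∉ orb q 2 t → Deg q u 1 ∧ R.count u ≤ 2 := by
      intro u hu hut
      obtain ⟨e, he, -⟩ := D.exists_deg hu
      obtain ⟨h4, hf⟩ := D.mass_two ht hd hu he hut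
      rw [hc1] at h4 hf
      have hcu := Multiset.one_le_count_iff_mem.mpr hu.1
      rcases hle2 hu he with rfl | rfl
      · exact ⟨he, by omega⟩
      · exfalso
        rcases hf (by omega) w hw with rfl | rfl | h | h
        · rw [if_neg D.one_ne_neg] at hw2; omega
        · rw [if_pos rfl] at hw2; omega
        · rw [D.count_orb h, hc1] at hw2; omega
        · rw [D.count_orb h] at hw2; omega
    have hsame : ∀ u s, NS R u → NS R s → u ∉ orb q 2 t → s ∉ orb q 2 t → s ∈ orb q 1 u := by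
      intro u s hu hs hut hst
      by_contra hsu
      obtain ⟨hdu, -⟩ := hdeg1 u hu hut
      obtain ⟨hds, -⟩ := hdeg1 s hs hst
      obtain ⟨a1, a2⟩ := D.special_notMem (d := 2) ht.2.1 ht.2.2
      obtain ⟨b1, b2⟩ := D.special_notMem (d := 1) hu.2.1 hu.2.2
      obtain ⟨c1, c2⟩ := D.special_notMem (d := 1) hs.2.1 hs.2.2
      have hsum : ∑ x ∈ insert 1 (insert (-1) ((orb q 2 t ∪ orb q 1 u) ∪ orb q 1 s)), R.count x =
          4 + 2 * R.count u + 2 * R.count s + R.count 1 + R.count (-1) := by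
        rw [Finset.sum_insert (by simp [a1, b1, c1, D.one_ne_neg]), Finset.sum_insert (by simp [a2, b2, c2]),
          Finset.sum_union (Finset.disjoint_union_left.mpr ⟨D.orb_disjoint ht hd hs hds hst,
            D.orb_disjoint hu hdu hs hds hsu⟩),
          Finset.sum_union (D.orb_disjoint ht hd hu hdu hut), D.sum_orb ht hd.2.2, D.sum_orb hu hdu.2.2,
          D.sum_orb hs hds.2.2, hc1]
        ring
      have hcu := Multiset.one_le_count_iff_mem.mpr hu.1
      have hcs := Multiset.one_le_count_iff_mem.mpr hs.1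
      have hle := mass R (insert 1 (insert (-1) ((orb q 2 t ∪ orb q 1 u) ∪ orb q 1 s)))
      rw [hsum, D.card] at hle
      have hin := all_mem R _ (by rw [hsum, D.card]; omega) hw
      simp only [Finset.mem_insert, Finset.mem_union] at hin
      rcases hin with rfl | rfl | (h | h) | h
      · rw [if_neg D.one_ne_neg] at hw2; omega
      · rw [if_pos rfl] at hw2; omega
      · rw [D.count_orb h, hc1] at hw2; omega
      · rw [D.count_orb h] at hw2; omega
      · rw [D.count_orb h] at hw2; omega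
    have key : ∀ M, t ^ M = 1 → 2 ∣ M → (∀ u, NS R u → u ∉ orb q 2 t → u ^ M = 1) → ∀ u ∈ R,
        u ^ M = 1 ∧ R.count u ≤ 2 * 1 + 1 + if u = -1 then 1 else 0 := by
      intro M hM hM2 hrest u hu
      rcases hcases u hu with rfl | rfl | hu'
      · exact ⟨one_pow _, le_add_right (by omega)⟩
      · exact ⟨hneg hM2, by rw [if_pos rfl]; omega⟩
      · by_cases hut : u ∈ orb q 2 t
        · exact ⟨orb_kill hM hut, by rw [D.count_orb hut, hc1]; omega⟩
        · exact ⟨hrest u hu' hut, by have := (hdeg1 u hu' hut).2; omega⟩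
    rcases hkill ht hd with hk | hk
    · refine ⟨(1, q ^ 2 - 1), by simp [targets], key _ hk ?_ fun u hu hut => ?_⟩
      · exact h2e.trans (Nat.div_dvd_of_dvd (by
          obtain ⟨j, hj⟩ := D.odd
          exact ⟨2 * j * (j + 1), by rw [hj]; exact Nat.sub_eq_of_eq_add (by ring)⟩))
      · refine (hk1 hu (hdeg1 u hu hut).1).elim (fun h => kill_of_dvd ?_ h) (fun h => kill_of_dvd ?_ h)
        · simpa using Nat.sub_dvd_pow_sub_pow q 1 2
        · exact Dvd.intro _ (by simpa using (Nat.sq_sub_sq q 1).symm)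
    · by_cases hex : ∃ u, NS R u ∧ u ∉ orb q 2 t ∧ u ^ (q - 1) = 1
      · obtain ⟨u, hu, hut, hu'⟩ := hex
        exact ⟨(1, (q ^ 2 + 1) * ((q - 1) / 2)), by simp [targets],
          key _ (kill_of_dvd (dvd_mul_right _ _) hk) (h21e.mul_right _) fun s hs hst =>
            orb_kill (kill_of_dvd hA1 hu') (hsame u s hu hs hut hst)⟩
      · push Not at hex
        exact ⟨(1, (q ^ 2 + 1) * ((q + 1) / 2)), by simp [targets],
          key _ (kill_of_dvd (dvd_mul_right _ _) hk) (h21e.mul_right _) fun s hs hst =>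
            kill_of_dvd hA2 ((hk1 hs (hdeg1 s hs hst).1).resolve_left (hex s hs hst))⟩
  push Not at h2
  have hdeg1 : ∀ {t : Ω}, NS R t → Deg q t 1 := fun {t} ht => by
    obtain ⟨d, hd, -⟩ := D.exists_deg ht
    rcases hle2 ht hd with rfl | rfl
    · exact hd
    · exact absurd hd (h2 t ht)
  have hsq : ∀ {t : Ω}, NS R t → t ^ ((q ^ 2 - 1) / 2) = 1 := fun ht =>
    (hk1 ht (hdeg1 ht)).elim (kill_of_dvd hm1) (kill_of_dvd hp1)
  by_cases hsmall : R.count 1 ≤ 5 ∧ R.count (-1) ≤ 6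
  · refine ⟨(2, (q ^ 2 - 1) / 2), by simp [targets], fun u hu => ?_⟩
    rcases hcases u hu with rfl | rfl | hu'
    · exact ⟨one_pow _, le_add_right (by omega)⟩
    · exact ⟨hneg h2e, by rw [if_pos rfl]; omega⟩
    · refine ⟨hsq hu', ?_⟩
      have := (D.mass_one hu' (hdeg1 hu')).1
      omega
  obtain ⟨h, heven, hh⟩ : ∃ h, h ∈ [(q + 1) / 2, (q - 1) / 2] ∧ 2 ∣ h := by
    obtain ⟨j, rfl⟩ := D.odd
    rcases Nat.even_or_odd j with ⟨i, hi⟩ | ⟨i, hi⟩
    · exact ⟨(2 * j + 1 - 1) / 2, by simp, by omega⟩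
    · exact ⟨(2 * j + 1 + 1) / 2, by simp, by omega⟩
  have h3mem : (3, h) ∈ targets q := by
    simp only [List.mem_cons, List.not_mem_nil, or_false] at heven
    rcases heven with rfl | rfl <;> simp [targets]
  obtain ⟨k, hk⟩ := hodd
  obtain ⟨j, hj⟩ := D.even
  by_cases hns : ∃ t, NS R t
  · obtain ⟨t, ht⟩ := hns
    obtain ⟨hmass, hfull⟩ := D.mass_one ht (hdeg1 ht)
    have hct := Multiset.one_le_count_iff_mem.mpr ht.1
    have hval : R.count t = 1 ∧ R.count 1 = 7 ∧ R.count (-1) = 0 := by omega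
    obtain ⟨e1, e2, e3⟩ := hval
    have hall : ∀ u ∈ R, u = 1 ∨ u ∈ orb q 1 t := fun u hu => by
      rcases hfull (by omega) u hu with h | h | h
      · exact Or.inl h
      · exact absurd (h ▸ hu) (Multiset.count_eq_zero.mp e3)
      · exact Or.inr h
    have key : ∀ M, t ^ M = 1 → ∀ u ∈ R, u ^ M = 1 ∧ R.count u ≤ 2 * 3 + 1 + if u = -1 then 1 else 0 := by
      intro M hM u hu
      rcases hall u hu with rfl | h
      · exact ⟨one_pow _, le_add_right (by omega)⟩
      · exact ⟨orb_kill hM h, by rw [D.count_orb h]; omega⟩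
    have hh := hhalf t 1 ht (hdeg1 ht) e1 hall
    rw [pow_one] at hh
    rcases hh with h' | h'
    · exact ⟨(3, (q - 1) / 2), by simp [targets], key _ h'⟩
    · exact ⟨(3, (q + 1) / 2), by simp [targets], key _ h'⟩
  · push Not at hns
    by_cases hm : (-1 : Ω) ∈ R
    · refine ⟨(3, h), h3mem, fun u hu => ?_⟩
      have hle := mass R {1, -1}
      rw [Finset.sum_pair D.one_ne_neg, D.card] at hle
      have := Multiset.one_le_count_iff_mem.mpr hm
      rcases hcases u hu with rfl | rfl | hu'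
      · exact ⟨one_pow _, le_add_right (by omega)⟩
      · exact ⟨hneg hh, by rw [if_pos rfl]; omega⟩
      · exact absurd hu' (hns u)
    · refine ⟨(4, 1), by simp [targets], fun u hu => ?_⟩
      rcases hcases u hu with rfl | rfl | hu'
      · exact ⟨one_pow _, le_add_right ((R.count_le_card _).trans D.card.le)⟩
      · exact absurd hu hm
      · exact absurd hu' (hns u)

end RootData

end CfsgLib.SpecO9
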