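import Cfsg.Agent.Lib.SpecO9.Pieces
import Cfsg.Agent.Lib.StdQuadForms
import Cfsg.Agent.Lib.POmegaCard

/-!
Both groups have the element orders dividing one of the targets.
-/

set_option autoImplicit false
set_option linter.unusedSectionVars false
set_option linter.style.haveILetI false
set_option maxHeartbeats 1000000

namespace CfsgLib.SpecO9

open QuadraticMap Module CfsgLib.FiniteForms CfsgLib.OmegaSum CfsgLib.SemisimplePrimeClasses
open scoped Matrix

variable {F : Type*} [Field F] [Fintype F]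

theorem Rep.of_dvd {aff : Prop} {d : ℕ} {ε : ℤˣ} {N N' : ℕ} {s : ℤˣ} (h : Rep F aff d ε N s) (hd : N' ∣ N) :
    Rep F aff d ε N' s := by
  obtain ⟨ι, i1, i2, Q, ht, g, v, h1, h3, h4, hN⟩ := h
  exact ⟨ι, i1, i2, Q, ht, g, v, h1, h3, h4, fun n a b => hd.trans (hN n a b)⟩

theorem mul_dvd_lcm_two {a b : ℕ} (h : Nat.gcd a (2 * b) ∣ 2) : a * b ∣ Nat.lcm a (2 * b) := by
  have h1 : a * (2 * b) ∣ Nat.lcm a (2 * b) * 2 := by
    rw [← Nat.gcd_mul_lcm a (2 * b), mul_comm (Nat.gcd _ _)]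
    exact Nat.mul_dvd_mul_left _ h
  refine Nat.dvd_of_mul_dvd_mul_right two_pos ?_
  rwa [mul_assoc, mul_comm b]

theorem gcd_dvd_two {a b n : ℕ} (ha : a ∣ n + 1) (hb : b ∣ n - 1) (hn : 1 ≤ n) : Nat.gcd a b ∣ 2 := by
  have := Nat.dvd_sub ((Nat.gcd_dvd_left a b).trans ha) ((Nat.gcd_dvd_right a b).trans hb)
  rwa [show n + 1 - (n - 1) = 2 by omega] at this

/-- The semisimple part of a target. -/
theorem tori (h2 : (2 : F) ≠ 0) (p : ℕ) [Fact p.Prime] [CharP F p] :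
    ∀ AM ∈ targets (Fintype.card F), Nat.Coprime p AM.2 ∧ (AM.1 < 4 →
      ∃ ε : ℤˣ, (AM.1 = 0 → ε = -1) ∧ Rep F False (4 - AM.1) ε AM.2 1) := by
  have hp : p.Prime := Fact.out
  have hp2 : p ≠ 2 := fun h => h2 (by subst h; exact CharTwo.two_eq_zero)
  obtain ⟨a, -, hF⟩ := FiniteField.card F p
  set q := Fintype.card F with hq
  obtain ⟨j, hj⟩ : Odd q := hF ▸ (hp.odd_of_ne_two hp2).pow
  have hq2 : 2 ≤ q := Fintype.one_lt_card
  have hone : ∀ k, 1 ≤ q ^ k := fun k => Nat.one_le_pow _ _ (by omega)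
  have hev : ∀ k, 2 * ((q ^ k + 1) / 2) = q ^ k + 1 ∧ 2 * ((q ^ k - 1) / 2) = q ^ k - 1 := fun k => by
    obtain ⟨i, hi⟩ : Odd (q ^ k) := (show Odd q from ⟨j, hj⟩).pow
    omega
  have hev1 : 2 * ((q + 1) / 2) = q + 1 ∧ 2 * ((q - 1) / 2) = q - 1 := by omega
  have hnot : ∀ k, 1 ≤ k → Nat.Coprime p (q ^ k + 1) ∧ Nat.Coprime p (q ^ k - 1) := fun k hk => by
    have hpd : p ∣ q ^ k := hF ▸ (dvd_pow_self p a.ne_zero).trans (dvd_pow_self _ (by omega))
    have h1 := hone k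
    constructor <;> refine hp.coprime_iff_not_dvd.mpr fun h => hp.not_dvd_one ?_
    · exact (Nat.dvd_add_right hpd).mp h
    · have := Nat.dvd_sub hpd h
      rwa [show q ^ k - (q ^ k - 1) = 1 by omega] at this
  have hhalf : ∀ k, 1 ≤ k → Nat.Coprime p ((q ^ k + 1) / 2) ∧ Nat.Coprime p ((q ^ k - 1) / 2) := fun k hk =>
    ⟨(hnot k hk).1.coprime_dvd_right ⟨2, by rw [mul_comm]; exact (hev k).1.symm⟩,
      (hnot k hk).2.coprime_dvd_right ⟨2, by rw [mul_comm]; exact (hev k).2.symm⟩⟩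
  have h1c : Nat.Coprime p ((q + 1) / 2) ∧ Nat.Coprime p ((q - 1) / 2) := by simpa using hhalf 1 le_rfl
  have tp := torus_plus (F := F) h2
  have tm := torus_minus (F := F) h2
  rw [← hq] at tp tm
  have sp : ∀ d, 1 ≤ d → Rep F False d 1 ((q ^ d - 1) / 2) 1 := fun d hd =>
    Rep.sq (s := -1) (by rw [(hev d).2]; exact tp d hd)
  have sm : ∀ d, 1 ≤ d → Rep F False d (-1) ((q ^ d + 1) / 2) 1 := fun d hd =>
    Rep.sq (s := -1) (by rw [(hev d).1]; exact tm d hd)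
  have e1 : ((-1 : ℤˣ) * -1) = 1 := by decide
  have hsq : q + 1 ∣ q ^ 2 - 1 ∧ q - 1 ∣ q ^ 2 - 1 := by
    have h : q ^ 2 - 1 = (q + 1) * (q - 1) := by simpa using Nat.sq_sub_sq q 1
    exact ⟨h ▸ dvd_mul_right _ _, h ▸ dvd_mul_left _ _⟩
  intro AM hAM
  simp only [targets, List.mem_cons, List.not_mem_nil, or_false] at hAM
  rcases hAM with rfl | rfl | rfl | rfl | rfl | rfl | rfl | rfl | rfl | rfl | rfl | rfl | rfl | rfl
  · exact ⟨(hhalf 4 (by norm_num)).1, fun _ => ⟨-1, fun _ => rfl, sm 4 (by norm_num)⟩⟩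
  · refine ⟨(hhalf 4 (by norm_num)).2, fun _ => ⟨1 * -1, fun _ => one_mul _, ?_⟩⟩
    have h := (tp 2 (by norm_num)).prod h2 (tm 2 (by norm_num))
    rw [e1] at h
    refine h.of_dvd ?_
    rw [Nat.lcm_comm, ← (hev 2).2]
    have h3 := mul_dvd_lcm_two (a := q ^ 2 + 1) (b := (q ^ 2 - 1) / 2) (by
      rw [(hev 2).2]; exact gcd_dvd_two dvd_rfl dvd_rfl (hone 2))
    refine Dvd.dvd.trans ?_ h3
    show (q ^ 4 - 1) / 2 ∣ _
    rw [show q ^ 4 - 1 = (q ^ 2 + 1) * (q ^ 2 - 1) by rw [show q ^ 4 = (q ^ 2) ^ 2 by ring]; simpa using Nat.sq_sub_sq (q ^ 2) 1,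
      Nat.mul_div_assoc _ ⟨_, (hev 2).2.symm⟩]
  · refine ⟨(hnot 3 (by norm_num)).1.mul_right h1c.2, fun _ => ⟨-1 * 1, fun _ => mul_one _, ?_⟩⟩
    have h := (tm 3 (by norm_num)).prod h2 (tp 1 le_rfl)
    rw [e1, pow_one, ← hev1.2] at h
    exact h.of_dvd (mul_dvd_lcm_two (by
      rw [hev1.2]
      exact gcd_dvd_two dvd_rfl (by simpa using Nat.sub_dvd_pow_sub_pow q 1 3) (hone 3)))
  · refine ⟨(hnot 3 (by norm_num)).2.mul_right h1c.1, fun _ => ⟨1 * -1, fun _ => one_mul _, ?_⟩⟩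
    have h := (tp 3 (by norm_num)).prod h2 (tm 1 le_rfl)
    rw [e1, pow_one, ← hev1.1] at h
    exact h.of_dvd (mul_dvd_lcm_two (by
      rw [hev1.1, Nat.gcd_comm]
      exact gcd_dvd_two (by simpa using (show Odd 3 by decide).nat_add_dvd_pow_add_pow q 1) dvd_rfl (hone 3)))
  · exact ⟨(hhalf 3 (by norm_num)).1, fun _ => ⟨-1, fun h => absurd h one_ne_zero, sm 3 (by norm_num)⟩⟩
  · exact ⟨(hhalf 3 (by norm_num)).2, fun _ => ⟨1, fun h => absurd h one_ne_zero, sp 3 (by norm_num)⟩⟩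
  · refine ⟨(hnot 2 (by norm_num)).1.mul_right h1c.1, fun _ => ⟨1, fun h => absurd h one_ne_zero, ?_⟩⟩
    have h := (tm 2 (by norm_num)).prod h2 (tm 1 le_rfl)
    rw [e1, pow_one, ← hev1.1] at h
    exact h.of_dvd (mul_dvd_lcm_two (by rw [hev1.1]; exact gcd_dvd_two dvd_rfl hsq.1 (hone 2)))
  · refine ⟨(hnot 2 (by norm_num)).1.mul_right h1c.2, fun _ => ⟨-1 * 1, fun h => absurd h one_ne_zero, ?_⟩⟩
    have h := (tm 2 (by norm_num)).prod h2 (tp 1 le_rfl)
    rw [e1, pow_one, ← hev1.2] at h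
    exact h.of_dvd (mul_dvd_lcm_two (by rw [hev1.2]; exact gcd_dvd_two dvd_rfl hsq.2 (hone 2)))
  · refine ⟨(hnot 2 (by norm_num)).2, fun _ => ⟨1 * -1, fun h => absurd h one_ne_zero, ?_⟩⟩
    have h := (tp 2 (by norm_num)).prod h2 (tm 1 le_rfl)
    rw [e1] at h
    exact h.of_dvd (Nat.dvd_lcm_left _ _)
  · exact ⟨(hhalf 2 (by norm_num)).1, fun _ => ⟨-1, fun h => absurd h two_ne_zero, sm 2 (by norm_num)⟩⟩
  · exact ⟨(hhalf 2 (by norm_num)).2, fun _ => ⟨1, fun h => absurd h two_ne_zero, sp 2 (by norm_num)⟩⟩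
  · exact ⟨h1c.1, fun _ => ⟨-1, fun h => absurd h three_ne_zero, by simpa using sm 1 le_rfl⟩⟩
  · exact ⟨h1c.2, fun _ => ⟨1, fun h => absurd h three_ne_zero, by simpa using sp 1 le_rfl⟩⟩
  · exact ⟨Nat.coprime_one_right p, fun h => absurd h (by norm_num)⟩

theorem four_of_targets {q : ℕ} {AM : ℕ × ℕ} (h : AM ∈ targets q) (h4 : ¬ AM.1 < 4) : AM.1 = 4 ∧ AM.2 = 1 := by
  simp only [targets, List.mem_cons, List.not_mem_nil, or_false] at h
  rcases h with rfl | rfl | rfl | rfl | rfl | rfl | rfl | rfl | rfl | rfl | rfl | rfl | rfl | rfl <;>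
    first | exact ⟨rfl, rfl⟩ | exact absurd (by norm_num) h4

/-- The numbers dividing a target. -/
def orders (p q : ℕ) : Set ℕ := {n | ∃ AM ∈ targets q, n ∣ ppart p AM.1 * AM.2}

theorem range_eq_orders {G : Type*} [Group G] [Finite G] {p q : ℕ}
    (hup : ∀ g : G, ∃ AM ∈ targets q, g ^ (ppart p AM.1 * AM.2) = 1)
    (hdown : ∀ AM ∈ targets q, ∃ g : G, ppart p AM.1 * AM.2 ∣ orderOf g) :
    Set.range (orderOf : G → ℕ) = orders p q := by
  ext n
  constructor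
  · rintro ⟨g, rfl⟩
    obtain ⟨AM, h, h'⟩ := hup g
    exact ⟨AM, h, orderOf_dvd_of_pow_eq_one h'⟩
  · rintro ⟨AM, h, hn⟩
    obtain ⟨g, hg⟩ := hdown AM h
    exact ⟨g ^ (orderOf g / n), orderOf_pow_orderOf_div (orderOf_pos g).ne' (hn.trans hg)⟩

theorem polarMat_smul_det {ι : Type} [Fintype ι] [DecidableEq ι] (Q : QuadraticForm F (ι → F)) (c : F) :
    (polarMat ⇑(c • Q)).det = c ^ Fintype.card ι * (polarMat ⇑Q).det := by
  rw [polarMat_smul, Matrix.det_smul]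

variable (p : ℕ) [Fact p.Prime] [CharP F p]

/-- The spectrum of the odd orthogonal group. -/
theorem nine_orders (h2 : (2 : F) ≠ 0) :
    Set.range (orderOf : Cfsg.Omega F ⇑(CfsgLib.StdQuadForms.Qo (F := F) 4) → ℕ) = orders p (Fintype.card F) := by
  classical
  set Q := CfsgLib.StdQuadForms.Qo (F := F) 4
  have hQ := CfsgLib.StdQuadForms.Qo_nondeg (F := F) h2 4
  have hn : Fintype.card (Unit ⊕ (Fin 4 ⊕ Fin 4)) = 9 := by simp
  have hp : p.Prime := Fact.out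
  have hp2 : p ≠ 2 := fun h => h2 (by subst h; exact CharTwo.two_eq_zero)
  refine range_eq_orders (fun g => ?_) fun AM hAM => ?_
  · obtain ⟨hd, hs⟩ := (mem_omega Q h2 (by omega) hQ g.1).mp g.2
    obtain ⟨AM, hAM, hdvd⟩ := charpoly_dvd_target Q h2 hQ hn g.1 hd hs p
    refine ⟨AM, hAM, Subtype.ext (Subtype.ext (Units.ext ?_))⟩
    have h := kill_cap Q hQ h2 g.1 (rootMultiplicity_neg_even Q hQ h2 g.1 hd) hdvd
    rw [map_sub, map_pow, Polynomial.aeval_X, map_one, sub_eq_zero] at h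
    rw [SubmonoidClass.coe_pow, SubmonoidClass.coe_pow, Units.val_pow_eq_pow_val]
    exact h
  · obtain ⟨hcop, htor⟩ := tori (F := F) h2 p AM hAM
    -- a witness in some space of dimension nine
    obtain ⟨κ, i1, i2, R, hκ, hR, hw⟩ : ∃ (κ : Type) (_ : Fintype κ) (_ : DecidableEq κ)
        (R : QuadraticForm F (κ → F)), Fintype.card κ = 9 ∧ (polarBilin R).Nondegenerate ∧
          Wit False R (ppart p AM.1 * AM.2) 1 := by
      obtain ⟨P, hP, hwP⟩ := odd_piece (F := F) p h2 AM.1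
      by_cases h4 : AM.1 < 4
      · obtain ⟨ε, -, ι, i1, i2, S, hS, hwS⟩ := htor h4
        refine ⟨Fin (2 * AM.1 + 1) ⊕ ι, inferInstance, inferInstance, Qs P S, ?_, Qs_nondeg _ _ hP hS.nondeg, ?_⟩
        · rw [Fintype.card_sum, Fintype.card_fin, hS.card]; omega
        · have := hwP.prod P S h2 hP hS.nondeg hwS
          rwa [(show Nat.Coprime (ppart p AM.1) AM.2 from hcop.pow_left _).lcm_eq_mul, one_mul] at this
      · have hA := four_of_targets hAM h4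
        exact ⟨Fin (2 * AM.1 + 1), inferInstance, inferInstance, P, by rw [Fintype.card_fin, hA.1], hP,
          by rwa [hA.2, mul_one]⟩
    set c := (polarMat ⇑R).det * (polarMat ⇑Q).det with hc
    have hc0 : c ≠ 0 := mul_ne_zero (polarMat_det_ne_zero hR) (polarMat_det_ne_zero hQ)
    have hcQ : (polarBilin (c • Q)).Nondegenerate := by
      have hl : ∀ u, (∀ v, polar ⇑(c • Q) u v = 0) → u = 0 := fun u hu => hQ.1 u fun v => by
        have := hu v
        rw [show ⇑(c • Q) = c • ⇑Q from rfl, QuadraticMap.polar_smul, smul_eq_mul] at this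
        exact (mul_eq_zero.mp this).resolve_left hc0
      exact ⟨fun u h => hl u h, fun v h => hl v fun u => (polar_comm _ v u).trans (h u)⟩
    have he : FormEquiv R (c • Q) := equiv_of_disc h2 (hκ.trans hn.symm) R (c • Q) hR hcQ
      ⟨c ^ 5, by rw [polarMat_smul_det, hn, mul_left_comm, ← hc]; ring⟩
    obtain ⟨g, hg, v, hv, hN⟩ := hw.transport h2 (by omega) hR he
    let T : Cfsg.isometryGroup F ⇑(c • Q) →* Cfsg.isometryGroup F ⇑Q :=
      (Cfsg.isometryGroup F ⇑(c • Q)).subtype.codRestrict _ fun x u w => by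
        have h : (c • Q) (x.1.1 *ᵥ u) = (c • Q) u := x.2 u w
        rw [QuadraticMap.smul_apply, QuadraticMap.smul_apply] at h
        exact mul_left_cancel₀ hc0 h
    have hT : T g ∈ Cfsg.Omega F ⇑Q := by
      have h3 : T g ∈ (Cfsg.Omega F ⇑(c • Q)).map T := ⟨g, hg, rfl⟩
      rw [Cfsg.Omega, commutator_def, Subgroup.map_commutator] at h3
      rw [Cfsg.Omega, commutator_def]
      exact Subgroup.commutator_mono le_top le_top h3
    refine ⟨⟨T g, hT⟩, hN _ ?_ (by simp [geoV, hv id])⟩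
    have h : T (g ^ orderOf (⟨T g, hT⟩ : Cfsg.Omega F ⇑Q)) = 1 := by
      rw [map_pow]
      exact congrArg Subtype.val (pow_orderOf_eq_one (⟨T g, hT⟩ : Cfsg.Omega F ⇑Q))
    have h' := congrArg Subtype.val h
    exact Subtype.ext h'

/-- The centre of the odd orthogonal group is trivial. -/
theorem nine_quotient (h2 : (2 : F) ≠ 0) :
    Set.range (orderOf : Cfsg.POmega F ⇑(CfsgLib.StdQuadForms.Qo (F := F) 4) → ℕ) =
      Set.range (orderOf : Cfsg.Omega F ⇑(CfsgLib.StdQuadForms.Qo (F := F) 4) → ℕ) := by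
  classical
  set Q := CfsgLib.StdQuadForms.Qo (F := F) 4
  have hQ := CfsgLib.StdQuadForms.Qo_nondeg (F := F) h2 4
  have hn : Fintype.card (Unit ⊕ (Fin 4 ⊕ Fin 4)) = 9 := by simp
  have hbot : Subgroup.center (Cfsg.Omega F ⇑Q) = ⊥ := by
    rw [Subgroup.eq_bot_iff_forall]
    intro z hz
    rcases CfsgLib.POmegaCard.center_cases Q (by omega) hQ z hz with h | h
    · exact Subtype.ext (Subtype.ext (Units.ext h))
    · exfalso
      have hd := ((mem_omega Q h2 (by omega) hQ z.1).mp z.2).1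
      rw [h, Matrix.det_neg, Matrix.det_one, mul_one, hn] at hd
      exact h2 (by linear_combination -hd)
  have hinj : Function.Injective (QuotientGroup.mk' (Subgroup.center (Cfsg.Omega F ⇑Q))) := by
    rw [← MonoidHom.ker_eq_bot_iff, QuotientGroup.ker_mk', hbot]
  ext n
  constructor
  · rintro ⟨x, rfl⟩
    obtain ⟨g, rfl⟩ := QuotientGroup.mk'_surjective _ x
    exact ⟨g, (orderOf_injective _ hinj g).symm⟩
  · rintro ⟨g, rfl⟩
    exact ⟨QuotientGroup.mk' _ g, orderOf_injective _ hinj g⟩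

theorem dvd_geom {χ χ' : Polynomial F} (N : ℕ) (e : χ' = χ * (Polynomial.X - 1))
    (h : χ' ∣ (Polynomial.X ^ N - 1) * (Polynomial.X + 1)) :
    χ ∣ (∑ i ∈ Finset.range N, (Polynomial.X : Polynomial F) ^ i) * (Polynomial.X + 1) := by
  have hX : (Polynomial.X : Polynomial F) - 1 ≠ 0 := by simpa using Polynomial.X_sub_C_ne_zero (1 : F)
  refine (mul_dvd_mul_iff_right hX).mp ?_
  rw [e] at h
  rwa [mul_right_comm, geom_sum_mul]

theorem charpoly_sum_unit {ι : Type} [Fintype ι] [DecidableEq ι] (Q : QuadraticForm F (ι → F)) (c : F)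
    (h : Cfsg.isometryGroup F ⇑Q) :
    (sumHom Q (Uc c) (h, 1)).1.1.charpoly = h.1.1.charpoly * (Polynomial.X - 1) := by
  have h0 : (sumHom Q (Uc c) (h, 1)).1.1 = Matrix.fromBlocks h.1.1 0 0 (1 : Matrix Unit Unit F) := rfl
  rw [h0, Matrix.charpoly_fromBlocks_zero₂₁, Matrix.charpoly_one]
  simp

theorem semi_kill {ι : Type} [Fintype ι] [DecidableEq ι] (Q : QuadraticForm F (ι → F)) (h2 : (2 : F) ≠ 0)
    (hQ : (polarBilin Q).Nondegenerate) (hn : Fintype.card ι = 8) (h : Cfsg.isometryGroup F ⇑Q)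
    (hd : h.1.1.det = 1) (hs : sgn Q h = 1) :
    ∃ AM ∈ targets (Fintype.card F), ∑ i ∈ Finset.range (ppart p AM.1 * AM.2), h.1.1 ^ i = 0 := by
  have hU : (polarBilin (Uc (1 : F))).Nondegenerate := Uc_nondeg h2 one_ne_zero
  have hd9 : (sumHom Q (Uc 1) (h, 1)).1.1.det = 1 := by
    rw [sumHom_val, Matrix.det_fromBlocks_zero₂₁, hd, one_mul]; exact Matrix.det_one
  obtain ⟨AM, hAM, hdvd⟩ := charpoly_dvd_target (Qs Q (Uc 1)) h2 (Qs_nondeg _ _ hQ hU) (by simp [hn])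
    (sumHom Q (Uc 1) (h, 1)) hd9 (by rw [sgn_sum Q _ h2 hQ hU, hs, map_one, one_mul]) p
  have hdvd' := dvd_geom (ppart p AM.1 * AM.2) (charpoly_sum_unit Q 1 h) hdvd
  have hz := kill_cap Q hQ h2 h (rootMultiplicity_neg_even Q hQ h2 h hd) hdvd'
  refine ⟨AM, hAM, ?_⟩
  simp only [map_sum, map_pow, Polynomial.aeval_X] at hz
  exact hz

section Semi

variable {a b : F}

theorem disc_Qm (h2 : (2 : F) ≠ 0) (hab : ∀ z₁ z₂ : F, z₁ ^ 2 + a * z₁ * z₂ + b * z₂ ^ 2 = 0 → z₁ = 0 ∧ z₂ = 0) :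
    Typ (CfsgLib.StdQuadForms.Qm 3 a b) 4 (-1) := by
  refine ⟨by simp, CfsgLib.StdQuadForms.Qm_nondeg 3 hab, ?_⟩
  have hG : polarMat ⇑(CfsgLib.StdQuadForms.Qm 3 a b) = ellMat 3 a b := by
    ext i j
    rw [polarMat, Matrix.of_apply, show (⇑(CfsgLib.StdQuadForms.Qm 3 a b)) = Cfsg.quadFormMinus 3 F a b from
      funext (CfsgLib.StdQuadForms.Qm_apply 3 a b), polar_minus]
    simp [Matrix.mulVec_single_one]
  rw [hG, det_ellMat, show (-1 : F) ^ 4 * ((-1) ^ 3 * (4 * b - a * a)) = a * a - 4 * b by ring]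
  exact if_neg (not_isSquare_of_anisotropic h2 hab)

/-- The spectrum of the split extension. -/
theorem semi_orders (h2 : (2 : F) ≠ 0)
    (hab : ∀ z₁ z₂ : F, z₁ ^ 2 + a * z₁ * z₂ + b * z₂ ^ 2 = 0 → z₁ = 0 ∧ z₂ = 0)
    (φ : Cfsg.Omega F ⇑(CfsgLib.StdQuadForms.Qm 3 a b) →*
      MulAut (Multiplicative (((Fin 3 ⊕ Fin 3) ⊕ Fin 2) → F)))
    (hφ : ∀ g w, Multiplicative.toAdd (φ g w) = g.1.1.1 *ᵥ Multiplicative.toAdd w) :
    Set.range (orderOf : Multiplicative (((Fin 3 ⊕ Fin 3) ⊕ Fin 2) → F) ⋊[φ]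
      Cfsg.Omega F ⇑(CfsgLib.StdQuadForms.Qm 3 a b) → ℕ) = orders p (Fintype.card F) := by
  classical
  have ht := disc_Qm h2 hab
  have hpow : ∀ (x : Multiplicative (((Fin 3 ⊕ Fin 3) ⊕ Fin 2) → F) ⋊[φ] Cfsg.Omega F ⇑(CfsgLib.StdQuadForms.Qm 3 a b)) (n : ℕ),
      Multiplicative.toAdd (x ^ n).left = geoV x.right.1 n (Multiplicative.toAdd x.left) ∧
        (x ^ n).right = x.right ^ n := by
    intro x n
    induction n with
    | zero => exact ⟨by simp [geoV], by simp⟩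
    | succ n ih =>
      refine ⟨?_, by rw [pow_succ', SemidirectProduct.mul_right, ih.2, pow_succ']⟩
      rw [pow_succ', SemidirectProduct.mul_left, toAdd_mul, hφ, ih.1, geoV, geoV, Finset.sum_range_succ',
        Matrix.mulVec_sum, pow_zero, add_comm]
      refine congrArg₂ (· + ·) (Finset.sum_congr rfl fun i _ => ?_) ?_
      · rw [pow_succ', Matrix.mulVec_mulVec]; rfl
      · exact (Matrix.one_mulVec _).symm
  haveI : Finite (Multiplicative (((Fin 3 ⊕ Fin 3) ⊕ Fin 2) → F) ⋊[φ] Cfsg.Omega F ⇑(CfsgLib.StdQuadForms.Qm 3 a b)) :=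
    Finite.of_equiv _ SemidirectProduct.equivProd.symm
  refine range_eq_orders (fun x => ?_) fun AM hAM => ?_
  · obtain ⟨hd, hs⟩ := (mem_omega (CfsgLib.StdQuadForms.Qm 3 a b) h2 (by simp) ht.nondeg x.right.1).mp x.right.2
    obtain ⟨AM, hAM, hz'⟩ := semi_kill p (CfsgLib.StdQuadForms.Qm 3 a b) h2 ht.nondeg (by simp) x.right.1 hd hs
    refine ⟨AM, hAM, ?_⟩
    generalize ppart p AM.1 * AM.2 = N at hz' ⊢
    refine SemidirectProduct.ext (Multiplicative.toAdd.injective ?_) (Subtype.ext (Subtype.ext (Units.ext ?_)))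
    · rw [(hpow x N).1, geoV]
      have := congrArg (· *ᵥ Multiplicative.toAdd x.left) hz'
      simp only [Matrix.sum_mulVec, Matrix.zero_mulVec] at this
      simpa [SubmonoidClass.coe_pow, Units.val_pow_eq_pow_val] using this
    · rw [(hpow x N).2, SubmonoidClass.coe_pow, SubmonoidClass.coe_pow, Units.val_pow_eq_pow_val]
      have := congrArg (· * (x.right.1.1.1 - 1)) hz'
      simp only [geom_sum_mul, zero_mul, sub_eq_zero] at this
      exact this
  · obtain ⟨hcop, htor⟩ := tori (F := F) h2 p AM hAM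
    obtain ⟨ι, i1, i2, R, hR, hw⟩ : Rep F True 4 (-1) (ppart p AM.1 * AM.2) 1 := by
      by_cases h4 : AM.1 < 4
      · obtain ⟨ε, hε0, hrep⟩ := htor h4
        rcases Nat.eq_zero_or_pos AM.1 with h0 | h0
        · rw [h0, hε0 h0] at hrep
          rw [h0, ppart, mul_zero, Nat.clog_zero_right, pow_zero, one_mul]
          exact hrep.mono
        · have h := (Rep.mono (aff := True) hrep).prod h2 (aff_piece (F := F) p h2 AM.1 h0 (-1 * ε))
          rw [(show Nat.Coprime (ppart p AM.1) AM.2 from hcop.pow_left _).symm.lcm_eq_mul, one_mul, mul_comm AM.2, show 4 - AM.1 + AM.1 = 4 by omega,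
            mul_left_comm, Int.units_mul_self, mul_one] at h
          exact h
      · have hA := four_of_targets hAM h4
        rw [hA.1, hA.2, mul_one]
        exact aff_piece (F := F) p h2 4 (by norm_num) (-1)
    have hsq : IsSquare ((polarMat ⇑R).det * (polarMat ⇑(CfsgLib.StdQuadForms.Qm 3 a b)).det) := by
      have h1 : (-1 : F) ^ 4 = 1 := by ring
      have hr := hR.disc
      have hq := ht.disc
      rw [h1, one_mul] at hr hq
      rw [← sg_eq_one_iff, sg_mul h2 (polarMat_det_ne_zero hR.nondeg) (polarMat_det_ne_zero ht.nondeg), hr, hq]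
      rfl
    obtain ⟨g, hg, v, -, hN⟩ := hw.transport h2 (by rw [hR.card]; norm_num) hR.nondeg
      (equiv_of_disc h2 (by rw [hR.card, ht.card]) R (CfsgLib.StdQuadForms.Qm 3 a b) hR.nondeg ht.nondeg hsq)
    refine ⟨⟨Multiplicative.ofAdd v, ⟨g, hg⟩⟩, hN _ ?_ ?_⟩
    · have h := congrArg SemidirectProduct.right (pow_orderOf_eq_one
        (⟨Multiplicative.ofAdd v, ⟨g, hg⟩⟩ : Multiplicative (((Fin 3 ⊕ Fin 3) ⊕ Fin 2) → F) ⋊[φ] Cfsg.Omega F ⇑(CfsgLib.StdQuadForms.Qm 3 a b)))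
      rw [(hpow _ _).2] at h
      exact congrArg Subtype.val h
    · have h := congrArg (fun y => Multiplicative.toAdd y.left) (pow_orderOf_eq_one
        (⟨Multiplicative.ofAdd v, ⟨g, hg⟩⟩ : Multiplicative (((Fin 3 ⊕ Fin 3) ⊕ Fin 2) → F) ⋊[φ] Cfsg.Omega F ⇑(CfsgLib.StdQuadForms.Qm 3 a b)))
      rw [(hpow _ _).1] at h
      exact h

end Semi

end CfsgLib.SpecO9
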